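import Cfsg.Agent.Omega.NSix.CaseJ.Exact
import Cfsg.Agent.Omega.Half.Basic

/-!
# OMEGA N6, case `J(S) ≰ O₂(P)`: `Ω₁(Z(O₂(P))) = V`, `Ω₁(Z(J(S))) ≤ V`, LEMMA Q (bb #16037 (1), (2), (2'))

* `alt` : an element `u` of `Ω₁(Z(J(O₂(P))))` is in `V`, or `u^Q ⊇ V u`;
* `oz` : `Ω₁(Z(O₂(P))) = V`;
* `zj_le` : `Ω₁(Z(J(S))) ≤ V`;
* `core` : the step of LEMMA Q; `mem` : LEMMA Q.
-/

set_option autoImplicit false
set_option linter.unusedSectionVars false

namespace Cfsg.Agent.Omega.NSix.CaseJ.LemQ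

open Subgroup Cfsg Cfsg.Agent.PLocal.ThompsonJ Cfsg.Agent.ZN Cfsg.Agent.ZN.ChoiceBase
open Cfsg.Agent.ZN.ChoiceSit Cfsg.Agent.PLocal.ElemAbSup
open Cfsg.Agent.MinSimple.VModule (mem_zc le_normalizer_zl)
open Cfsg.Agent.Omega.MinPar
open Cfsg.Agent.Omega.S5.Def Cfsg.Agent.Omega.S5.Syl Cfsg.Agent.Omega.S5.Pair
open Cfsg.Agent.Omega.NSix.Base Cfsg.Agent.Omega.NSix.Basic
open Cfsg.Agent.Omega.SQ1.Bau (mem_AA_of_comm elem_comm elem_sq mem_sup_comm card_sup_comm)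
open Cfsg.Agent.Omega.SQ1 (Bau.In.zj_elem Bau.In.zj_le)
open Cfsg.Agent.Omega.NSix.CaseJ.Base Cfsg.Agent.Omega.NSix.CaseJ.Exact

universe u

variable {G : Type u} [Group G]

/-! ### the module -/

section mod

variable {m : ℕ} {V P : Subgroup G} {ε : (Fin (2 ^ m + 1) → ZMod 2) → G}

/-- The pairs generate `V`. -/
theorem V_le_of_rr (h : EvenSet (2 ^ m + 1) V P ε) (hm : 1 ≤ m) {W : Subgroup G}
    (hW : ∀ i, rr ε i 0 ∈ W) : V ≤ W := by
  intro v hv
  obtain ⟨x, rfl⟩ := h.surj v hv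
  rw [← OfEven.eps_hat h]
  have hs := S5.Of.sum_hat hm x
  set y := S5.Of.hat x with hy
  let A : AddSubgroup (Fin (2 ^ m + 1) → ZMod 2) :=
    { carrier := {y | ε y ∈ W}
      add_mem' := by
        intro a b ha hb
        change ε (a + b) ∈ W
        rw [h.add]
        exact mul_mem ha hb
      zero_mem' := by
        change ε 0 ∈ W
        rw [h.zero]
        exact one_mem W
      neg_mem' := by
        intro a ha
        change ε (-a) ∈ W
        have e : -a = a := by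
          funext i
          exact CharTwo.neg_eq (a i)
        rw [e]
        exact ha }
  have h01 : ∀ a : ZMod 2, a = 0 ∨ a = 1 := by decide
  have e : y = ∑ i, y i • ((Pi.single i 1 + Pi.single 0 1 : Fin (2 ^ m + 1) → ZMod 2)) := by
    funext k
    rw [Finset.sum_apply]
    simp only [Pi.smul_apply, Pi.add_apply, smul_eq_mul, mul_add]
    rw [Finset.sum_add_distrib]
    have e1 : ∑ i, y i * (Pi.single i 1 : Fin (2 ^ m + 1) → ZMod 2) k = y k := by
      rw [Finset.sum_eq_single k]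
      · rw [Pi.single_eq_same, mul_one]
      · intro i _ hik
        rw [Pi.single_eq_of_ne (Ne.symm hik), mul_zero]
      · intro hk
        exact absurd (Finset.mem_univ k) hk
    have e2 : ∑ i, y i * (Pi.single 0 1 : Fin (2 ^ m + 1) → ZMod 2) k = 0 := by
      rw [← Finset.sum_mul, hs, zero_mul]
    rw [e1, e2, add_zero]
  have h1 : y ∈ A := by
    rw [e]
    refine A.sum_mem fun i _ => ?_
    rcases h01 (y i) with h2 | h2
    · rw [h2, zero_smul]
      exact A.zero_mem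
    · rw [h2, one_smul]
      change ε (Pi.single i 1 + Pi.single 0 1) ∈ W
      rw [h.add]
      exact hW i
  exact h1

/-- A nonzero vector has two different coordinates. -/
theorem exists_ne (h : EvenSet (2 ^ m + 1) V P ε) {x : Fin (2 ^ m + 1) → ZMod 2} (hx : ε x ≠ 1) :
    ∃ i, x 0 ≠ x i := by
  by_contra hcon
  push Not at hcon
  apply hx
  have h01 : ∀ a : ZMod 2, a = 0 ∨ a = 1 := by decide
  rw [h.ker]
  rcases h01 (x 0) with h1 | h1
  · left
    funext i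
    rw [← hcon i, h1]
    rfl
  · right
    funext i
    rw [← hcon i, h1]
    rfl

/-- A permutation fixing all points of `V`. -/
theorem ext_perm (Pm : Subgroup (Equiv.Perm (Fin (2 ^ m + 1)))) (hP : ∀ z, z ≠ 0 → Equiv.swap 0 z ∈ Pm)
    (σ : Equiv.Perm (Fin (2 ^ m + 1))) : σ ∈ Pm := by
  rw [SQ1.FFSym.SyT.perm_top Pm hP]
  exact mem_top σ

end mod

variable [Finite G] {S : Sylow 2 G} {P : Subgroup G} {m : ℕ} {ε : (Fin (2 ^ m + 1) → ZMod 2) → G}

section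

variable (h : Hyp S P ε)
include h

theorem V_elem : IsElementaryAbelian 2 (zl (S : Subgroup G) P) := isElementaryAbelian_iff.2
  ⟨fun x hx y hy => h.ev.comm_mem hx hy, fun x hx => by rw [pow_two]; exact h.ev.sq_mem hx⟩

theorem V_le_zjQ : zl (S : Subgroup G) P ≤ zj (o2 P) := by
  obtain ⟨ι, X, Y, N, t, r, -, hd⟩ := h.exists_dat
  exact hd.bas.V_le_zjQ

theorem zj_le_zjQ : zj (S : Subgroup G) ≤ zj (o2 P) := by
  obtain ⟨ι, X, Y, N, t, r, -, hd⟩ := h.exists_dat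
  exact hd.bas.Z_le_zjQ

theorem zjQ_norm {g y : G} (hg : g ∈ P) (hy : y ∈ zj (o2 P)) : g * y * g⁻¹ ∈ zj (o2 P) := by
  obtain ⟨ι, X, Y, N, t, r, -, hd⟩ := h.exists_dat
  exact hd.bas.zjQ_norm hg hy

theorem zjQ_norm' {g y : G} (hg : g ∈ P) (hy : y ∈ zj (o2 P)) : g⁻¹ * y * g ∈ zj (o2 P) := by
  have := zjQ_norm h (inv_mem hg) hy
  rwa [inv_inv] at this

theorem Vn' {g x : G} (hg : g ∈ P) (hx : x ∈ zl (S : Subgroup G) P) :
    g⁻¹ * x * g ∈ zl (S : Subgroup G) P := by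
  have := h.Vn (inv_mem hg) hx
  rwa [inv_inv] at this

/-- `zj Q` is abelian. -/
theorem zjQ_comm {x y : G} (hx : x ∈ zj (o2 P)) (hy : y ∈ zj (o2 P)) : x * y = y * x :=
  elem_comm (Bau.In.zj_elem (o2 P)) x hx y hy

theorem zjQ_sq {x : G} (hx : x ∈ zj (o2 P)) : x * x = 1 := by
  have := elem_sq (Bau.In.zj_elem (o2 P)) x hx
  rwa [pow_two] at this

theorem VcY {x v : G} (hx : x ∈ zj (o2 P)) (hv : v ∈ zl (S : Subgroup G) P) : x * v = v * x :=
  zjQ_comm h hx (V_le_zjQ h hv)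

/-- `[J(S)^g, zj Q] ≤ V`. -/
theorem comm_Y {g j y : G} (hg : g ∈ P) (hj : j ∈ jj (S : Subgroup G)) (hy : y ∈ zj (o2 P)) :
    (g * j * g⁻¹) * y * (g * j * g⁻¹)⁻¹ * y⁻¹ ∈ zl (S : Subgroup G) P := by
  obtain ⟨ι, X, Y, N, t, r, -, hd⟩ := h.exists_dat
  have h1 := h.Vn hg (hd.bas.jj_act j hj _ (zjQ_norm' h hg hy))
  have e : (g * j * g⁻¹) * y * (g * j * g⁻¹)⁻¹ * y⁻¹ =
      g * (j * (g⁻¹ * y * g) * j⁻¹ * (g⁻¹ * y * g)⁻¹) * g⁻¹ := by group
  rw [e]
  exact h1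

/-- Every transposition is induced by a conjugate of an element of `J(S)`. -/
theorem swap_J {i j : Fin (2 ^ m + 1)} (hij : i ≠ j) : ∃ g ∈ P, ∃ b ∈ jj (S : Subgroup G),
    Acts ε (g * b * g⁻¹) (Equiv.swap i j) := by
  obtain ⟨A, hAA, p, q, hpq, hA⟩ := exists_ex_S h
  obtain ⟨b, hb, hb'⟩ := hA.ex
  obtain ⟨σ, h1, h2, -⟩ := exists_perm hpq hij
  obtain ⟨g, hg, hσ⟩ := h.ev.full σ
  refine ⟨g, hg, b, le_jj hAA hb, ?_⟩
  have := hσ.conj hb'
  rwa [← Equiv.swap_apply_apply, h1, h2] at this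

theorem jj_le_P : jj (S : Subgroup G) ≤ P := (jj_le _).trans h.SP

/-- `C_Y(J_P) = 1`. -/
theorem fixY {y : G} (hy : y ∈ zj (o2 P))
    (hc : ∀ g ∈ P, ∀ j ∈ jj (S : Subgroup G), (g * j * g⁻¹) * y = y * (g * j * g⁻¹)) : y = 1 := by
  by_contra hne
  let Y₀ : Subgroup G :=
    { carrier := {y | y ∈ zj (o2 P) ∧ ∀ g ∈ P, ∀ j ∈ jj (S : Subgroup G),
        (g * j * g⁻¹) * y = y * (g * j * g⁻¹)}
      mul_mem' := by
        rintro a b ⟨ha, ha'⟩ ⟨hb, hb'⟩
        refine ⟨mul_mem ha hb, fun g hg j hj => ?_⟩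
        calc (g * j * g⁻¹) * (a * b) = ((g * j * g⁻¹) * a) * b := by group
          _ = a * ((g * j * g⁻¹) * b) := by rw [ha' g hg j hj]; group
          _ = a * b * (g * j * g⁻¹) := by rw [hb' g hg j hj]; group
      one_mem' := ⟨one_mem _, fun g _ j _ => by rw [mul_one, one_mul]⟩
      inv_mem' := by
        rintro a ⟨ha, ha'⟩
        refine ⟨inv_mem ha, fun g hg j hj => ?_⟩
        have := ha' g hg j hj
        calc (g * j * g⁻¹) * a⁻¹ = a⁻¹ * (a * (g * j * g⁻¹)) * a⁻¹ := by group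
          _ = a⁻¹ * ((g * j * g⁻¹) * a) * a⁻¹ := by rw [this]
          _ = a⁻¹ * (g * j * g⁻¹) := by group }
  have hY₀ : IsPGroup 2 Y₀ := by
    rintro ⟨z, hz⟩
    refine ⟨1, Subtype.ext ?_⟩
    change z ^ 2 ^ 1 = 1
    rw [pow_one, pow_two]
    exact zjQ_sq h hz.1
  have hne' : Y₀ ≠ ⊥ := fun e => hne (mem_bot.1 (e ▸ (show y ∈ Y₀ from ⟨hy, hc⟩)))
  have hSn : (S : Subgroup G) ≤ normalizer (Y₀ : Set G) := by
    have key : ∀ s ∈ (S : Subgroup G), ∀ z ∈ Y₀, s * z * s⁻¹ ∈ Y₀ := by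
      rintro s hs z ⟨hz, hz'⟩
      refine ⟨zjQ_norm h (h.SP hs) hz, fun g hg j hj => ?_⟩
      have h1 := hz' (s⁻¹ * g) (mul_mem (inv_mem (h.SP hs)) hg) j hj
      calc g * j * g⁻¹ * (s * z * s⁻¹) = s * ((s⁻¹ * g) * j * (s⁻¹ * g)⁻¹ * z) * s⁻¹ := by group
        _ = s * (z * ((s⁻¹ * g) * j * (s⁻¹ * g)⁻¹)) * s⁻¹ := by rw [h1]
        _ = s * z * s⁻¹ * (g * j * g⁻¹) := by group
    intro s hs
    rw [mem_normalizer_iff]
    refine fun z => ⟨key s hs z, fun hz => ?_⟩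
    have h1 := key s⁻¹ (inv_mem hs) _ hz
    have e : s⁻¹ * (s * z * s⁻¹) * s⁻¹⁻¹ = z := by group
    rwa [e] at h1
  obtain ⟨v, ⟨hv, hv'⟩, hv1, hvS⟩ := Cfsg.Agent.Omega.Half.exists_fixed hY₀ hne' S.isPGroup' hSn
  have hvQ : v ∈ o2 P := Bau.In.zj_le _ hv
  have hvV : v ∈ zl (S : Subgroup G) P := by
    refine zc_le_zl _ _ (mem_zc.2 ⟨h.QS hvQ, fun s hs => ?_, by rw [pow_two]; exact zjQ_sq h hv⟩)
    calc s * v = (s * v * s⁻¹) * s := by group
      _ = v * s := by rw [hvS s hs]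
  obtain ⟨x, rfl⟩ := h.ev.surj v hvV
  obtain ⟨i, hi⟩ := exists_ne h.ev hv1
  have h0i : (0 : Fin (2 ^ m + 1)) ≠ i := fun e => hi (by rw [← e])
  obtain ⟨g, hg, b, hb, hgb⟩ := swap_J h h0i
  exact hi ((swap_comm_iff h.ev h.three h0i hgb x).1 (hv' g hg b hb))

/-- Dichotomy for `C_P(V)`. -/
theorem dich {u : G} (hu : u ∈ zj (o2 P)) :
    (∀ g ∈ P, (∀ v ∈ zl (S : Subgroup G) P, g * v = v * g) →
      g * u * g⁻¹ * u⁻¹ ∈ zl (S : Subgroup G) P → g * u = u * g) ∨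
      ∀ v ∈ zl (S : Subgroup G) P, ∃ q ∈ o2 P, q * u * q⁻¹ = v * u := by
  set V := zl (S : Subgroup G) P with hV
  by_cases hcase : ∀ g ∈ P, (∀ v ∈ V, g * v = v * g) → g * u * g⁻¹ * u⁻¹ ∈ V → g * u = u * g
  · exact Or.inl hcase
  right
  push Not at hcase
  obtain ⟨g, hg, hgV, hgu, hne⟩ := hcase
  set v₀ := g * u * g⁻¹ * u⁻¹ with hv₀
  have hv₀1 : v₀ ≠ 1 := by
    intro e
    apply hne
    calc g * u = v₀ * (u * g) := by rw [hv₀]; group
      _ = u * g := by rw [e, one_mul]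
  have hv₀2 : v₀ * v₀ = 1 := h.ev.sq_mem hgu
  obtain ⟨c, hc, Nn, hN⟩ := SQ1.SymCyc.exists_pow g 1
  have hpow : ∀ k : ℕ, g ^ k * u * (g ^ k)⁻¹ = v₀ ^ k * u := by
    intro k
    induction k with
    | zero => group
    | succ k ih =>
      have hgk : g * v₀ ^ k = v₀ ^ k * g := (Commute.pow_right (hgV v₀ hgu) k).eq
      calc g ^ (k + 1) * u * (g ^ (k + 1))⁻¹ = g * (g ^ k * u * (g ^ k)⁻¹) * g⁻¹ := by
            rw [pow_succ']; group
        _ = (g * v₀ ^ k) * u * g⁻¹ := by rw [ih]; group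
        _ = v₀ ^ k * (g * u * g⁻¹) := by rw [hgk]; group
        _ = v₀ ^ k * (v₀ * u) := by rw [hv₀]; group
        _ = v₀ ^ (k + 1) * u := by rw [pow_succ]; group
  have hvc : v₀ ^ c = v₀ := by
    have hc' : c = 2 * (c / 2) + 1 := by
      have : c % 2 = 1 := by simpa using hc
      omega
    rw [hc', pow_succ, pow_mul, pow_two, hv₀2, one_pow, one_mul]
  have hq : g ^ c ∈ o2 P := h.two (pow_mem hg c)
    (fun v hv => (Commute.pow_left (hgV v hv) c).eq) ⟨Nn, hN⟩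
  have hVY := V_le_zjQ h
  -- the subgroup `W`
  let W : Subgroup G :=
    { carrier := {v | v ∈ V ∧ ∃ q ∈ o2 P, q * u * q⁻¹ = v * u}
      mul_mem' := by
        rintro a b ⟨ha, q, hq, hqa⟩ ⟨hb, q', hq', hqb⟩
        refine ⟨mul_mem ha hb, q * q', mul_mem hq hq', ?_⟩
        calc q * q' * u * (q * q')⁻¹ = q * (q' * u * q'⁻¹) * q⁻¹ := by group
          _ = (q * b) * u * q⁻¹ := by rw [hqb]; group
          _ = b * (q * u * q⁻¹) := by rw [h.VcQ hq hb]; group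
          _ = b * a * u := by rw [hqa]; group
          _ = a * b * u := by rw [h.ev.comm_mem hb ha]
      one_mem' := ⟨one_mem _, 1, one_mem _, by group⟩
      inv_mem' := by
        rintro a ⟨ha, q, hq, hqa⟩
        refine ⟨inv_mem ha, q⁻¹, inv_mem hq, ?_⟩
        have e1 : u = q⁻¹ * (q * u * q⁻¹) * q := by group
        have e2 : a * q = q * a := (h.VcQ hq ha).symm
        have e3 : q⁻¹ * a = a * q⁻¹ := h.VcQ (inv_mem hq) ha
        calc q⁻¹ * u * q⁻¹⁻¹ = a⁻¹ * ((a * q⁻¹) * u * q) := by group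
          _ = a⁻¹ * ((q⁻¹ * a) * u * q) := by rw [← e3]
          _ = a⁻¹ * (q⁻¹ * (a * u) * q) := by group
          _ = a⁻¹ * u := by rw [← hqa]; group }
  have hv₀W : v₀ ∈ W := ⟨hgu, g ^ c, hq, by rw [hpow, hvc]⟩
  have hWn : ∀ k ∈ P, ∀ j ∈ jj (S : Subgroup G), ∀ v ∈ W, (k * j * k⁻¹) * v * (k * j * k⁻¹)⁻¹ ∈ W := by
    rintro k hk j hj v ⟨hv, q, hq, hqv⟩
    set s := k * j * k⁻¹ with hs
    have hsP : s ∈ P := mul_mem (mul_mem hk (jj_le_P h hj)) (inv_mem hk)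
    have hw := comm_Y h hk hj hu
    rw [← hs] at hw
    set w := s * u * s⁻¹ * u⁻¹ with hwd
    have hw' : s⁻¹ * w⁻¹ * s ∈ V := Vn' h hsP (inv_mem hw)
    have hsvV : s * v * s⁻¹ ∈ V := h.Vn hsP hv
    refine ⟨hsvV, s * q * s⁻¹, h.Qn hsP hq, ?_⟩
    have e1 : s⁻¹ * u * s = s⁻¹ * w⁻¹ * s * u := by
      rw [hwd]; group
    have e2 : q * (s⁻¹ * w⁻¹ * s) = (s⁻¹ * w⁻¹ * s) * q := h.VcQ hq hw'
    have e3 : w⁻¹ * (s * v * s⁻¹) = (s * v * s⁻¹) * w⁻¹ := h.ev.comm_mem (inv_mem hw) hsvV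
    calc s * q * s⁻¹ * u * (s * q * s⁻¹)⁻¹ = s * (q * (s⁻¹ * u * s) * q⁻¹) * s⁻¹ := by group
      _ = s * ((q * (s⁻¹ * w⁻¹ * s)) * u * q⁻¹) * s⁻¹ := by rw [e1]; group
      _ = s * ((s⁻¹ * w⁻¹ * s) * (q * u * q⁻¹)) * s⁻¹ := by rw [e2]; group
      _ = w⁻¹ * (s * v * s⁻¹) * (s * u * s⁻¹) := by rw [hqv]; group
      _ = (s * v * s⁻¹) * (w⁻¹ * (s * u * s⁻¹)) := by rw [e3]; group
      _ = (s * v * s⁻¹) * u := by rw [hwd]; group
  have hWV : V ≤ W := by
    obtain ⟨x, hx⟩ := h.ev.surj v₀ hgu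
    rw [← hx] at hv₀1 hv₀W
    obtain ⟨i, hi⟩ := exists_ne h.ev hv₀1
    have h0i : (0 : Fin (2 ^ m + 1)) ≠ i := fun e => hi (by rw [← e])
    obtain ⟨k, hk, b, hb, hkb⟩ := swap_J h h0i
    have h1 := mul_mem (inv_mem hv₀W) (hWn k hk b hb _ hv₀W)
    have h2 : rr ε 0 i ∈ W := by
      have e := (acts_swap h.ev hkb x).2 hi
      rw [e, ← rr_eq h.ev, inv_mul_cancel_left] at h1
      exact h1
    refine V_le_of_rr h.ev (by have := h.hm; omega) fun j => ?_
    by_cases hj0 : j = 0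
    · subst hj0
      rw [rr_eq h.ev, add_self, h.ev.zero]
      exact one_mem W
    by_cases hji : j = i
    · subst hji
      rw [rr_symm h.ev]
      exact h2
    obtain ⟨l, hl, b', hb', hlb⟩ := swap_J h (Ne.symm hji)
    have h3 := hWn l hl b' hb' _ h2
    rw [rr_conj hlb, Equiv.swap_apply_left, Equiv.swap_apply_of_ne_of_ne h0i (Ne.symm hj0)] at h3
    rw [rr_symm h.ev]
    exact h3
  exact fun v hv => (hWV hv).2

/-- **An element of `Ω₁(Z(J(Q)))` is in `V`, or `u^Q ⊇ V u`.** -/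
theorem alt {u : G} (hu : u ∈ zj (o2 P)) : u ∈ zl (S : Subgroup G) P ∨
    ∀ v ∈ zl (S : Subgroup G) P, ∃ q ∈ o2 P, q * u * q⁻¹ = v * u := by
  classical
  set V := zl (S : Subgroup G) P with hV
  rcases dich h hu with hK | hK
  swap
  · exact Or.inr hK
  left
  have hu2 := zjQ_sq h hu
  have hex : ∀ i : Fin (2 ^ m + 1), ∃ a : G, i ≠ 0 → a ∈ P ∧ Acts ε a (Equiv.swap 0 i) ∧
      (a * u * a⁻¹ = u ∨ a * u * a⁻¹ = u * rr ε 0 i) := by
    intro i
    by_cases hi : i = 0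
    · exact ⟨1, fun h => absurd hi h⟩
    obtain ⟨A, hA⟩ := exists_ex h (Ne.symm hi)
    obtain ⟨a, ha, ha'⟩ := hA.ex
    refine ⟨a, fun _ => ⟨hA.AP ha, ha', ?_⟩⟩
    refine hA.transv h (Ne.symm hi) (Bau.In.zj_elem (o2 P)) (V_le_zjQ h) (fun b hb x hx => ?_) ha hu
    exact (mem_zj.1 hx).2.2 b ((hA.A0_le h (Ne.symm hi)).1 hb)
  choose a ha using hex
  let x : Fin (2 ^ m + 1) → ZMod 2 := fun i => if i = 0 then 0 else if a i * u * (a i)⁻¹ = u then 0 else 1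
  have hx0 : x 0 = 0 := if_pos rfl
  set w := u * ε x with hw
  have hεV : ε x ∈ V := h.ev.mem x
  have hwY : w ∈ zj (o2 P) := mul_mem hu (V_le_zjQ h hεV)
  have haw : ∀ i, i ≠ 0 → a i * w = w * a i := by
    intro i hi
    obtain ⟨haP, hact, hau⟩ := ha i hi
    have e0 : a i * w = (a i * u * (a i)⁻¹) * (a i * ε x * (a i)⁻¹) * a i := by rw [hw]; group
    by_cases hc : a i * u * (a i)⁻¹ = u
    · have hxi : x i = 0 := by
        simp only [x]
        rw [if_neg hi, if_pos hc]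
      have h1 := (acts_swap h.ev hact x).1 (hx0.trans hxi.symm)
      rw [e0, hc, h1, hw]
      group
    · have hxi : x i = 1 := by
        simp only [x]
        rw [if_neg hi, if_neg hc]
      have h1 := (acts_swap h.ev hact x).2 (by rw [hx0, hxi]; exact zero_ne_one)
      have h2 := hau.resolve_left hc
      rw [← rr_eq h.ev] at h1
      rw [e0, h1, h2, hw]
      have e1 : rr ε 0 i * ε x = ε x * rr ε 0 i := h.ev.comm_mem (rr_mem h.ev 0 i) hεV
      calc u * rr ε 0 i * (ε x * rr ε 0 i) * a i = u * (rr ε 0 i * ε x) * rr ε 0 i * a i := by group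
        _ = u * ε x * (rr ε 0 i * rr ε 0 i) * a i := by rw [e1]; group
        _ = u * ε x * a i := by rw [rr_sq h.ev, mul_one]
  -- the subgroup `C`
  let C : Subgroup G :=
    { carrier := {g | g ∈ P ∧ g * u * g⁻¹ * u⁻¹ ∈ V ∧ g * w = w * g}
      mul_mem' := by
        rintro b c ⟨hb, hb', hb''⟩ ⟨hc, hc', hc''⟩
        refine ⟨mul_mem hb hc, ?_, ?_⟩
        · have e : b * c * u * (b * c)⁻¹ * u⁻¹ = (b * (c * u * c⁻¹ * u⁻¹) * b⁻¹) * (b * u * b⁻¹ * u⁻¹) := by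
            group
          rw [e]
          exact mul_mem (h.Vn hb hc') hb'
        · rw [mul_assoc, hc'', ← mul_assoc, hb'', mul_assoc]
      one_mem' := ⟨one_mem _, by simp, by simp⟩
      inv_mem' := by
        rintro b ⟨hb, hb', hb''⟩
        refine ⟨inv_mem hb, ?_, ?_⟩
        · have e : b⁻¹ * u * b⁻¹⁻¹ * u⁻¹ = b⁻¹ * (b * u * b⁻¹ * u⁻¹)⁻¹ * b := by group
          rw [e]
          exact Vn' h hb (inv_mem hb')
        · calc b⁻¹ * w = b⁻¹ * (w * b) * b⁻¹ := by group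
            _ = b⁻¹ * (b * w) * b⁻¹ := by rw [hb'']
            _ = w * b⁻¹ := by group }
  let Pm : Subgroup (Equiv.Perm (Fin (2 ^ m + 1))) :=
    { carrier := {σ | ∃ c ∈ C, Acts ε c σ}
      mul_mem' := by
        rintro σ τ ⟨b, hb, hb'⟩ ⟨c, hc, hc'⟩
        exact ⟨b * c, mul_mem hb hc, hb'.mul hc'⟩
      one_mem' := ⟨1, one_mem _, Acts.one⟩
      inv_mem' := by
        rintro σ ⟨b, hb, hb'⟩
        exact ⟨b⁻¹, inv_mem hb, hb'.inv⟩ }
  have hPm : ∀ σ, σ ∈ Pm := ext_perm Pm fun z hz => by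
    obtain ⟨haP, hact, hau⟩ := ha z hz
    refine ⟨a z, ⟨haP, ?_, haw z hz⟩, hact⟩
    rcases hau with h1 | h1
    · rw [h1, mul_inv_cancel]
      exact one_mem _
    · rw [h1]
      have e : u * rr ε 0 z * u⁻¹ = rr ε 0 z := by
        rw [VcY h hu (rr_mem h.ev 0 z), mul_inv_cancel_right]
      rw [e]
      exact rr_mem h.ev 0 z
  have hw1 : w = 1 := by
    refine fixY h hwY fun g hg j hj => ?_
    set k := g * j * g⁻¹ with hk
    have hkP : k ∈ P := mul_mem (mul_mem hg (jj_le_P h hj)) (inv_mem hg)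
    have hku := comm_Y h hg hj hu
    rw [← hk] at hku
    obtain ⟨σ, hσ⟩ := h.ev.perm k hkP
    obtain ⟨c, ⟨hcP, hcu, hcw⟩, hcσ⟩ := hPm σ
    have hck := h.ev.mem_centralizer_of_acts hσ hcσ
    have hckP : c⁻¹ * k ∈ P := mul_mem (inv_mem hcP) hkP
    have h1 : c⁻¹ * k * u * (c⁻¹ * k)⁻¹ * u⁻¹ ∈ V := by
      have e : c⁻¹ * k * u * (c⁻¹ * k)⁻¹ * u⁻¹ =
          (c⁻¹ * (k * u * k⁻¹ * u⁻¹) * c) * (c⁻¹ * (c * u * c⁻¹ * u⁻¹)⁻¹ * c) := by group
      rw [e]
      exact mul_mem (Vn' h hcP hku) (Vn' h hcP (inv_mem hcu))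
    have h2 := hK _ hckP (fun v hv => (mem_centralizer_iff.1 hck v hv).symm) h1
    have h3 : c⁻¹ * k * w = w * (c⁻¹ * k) := by
      rw [hw, ← mul_assoc, h2, mul_assoc, ← mem_centralizer_iff.1 hck _ hεV, mul_assoc]
    calc k * w = c * (c⁻¹ * k * w) := by group
      _ = (c * w) * (c⁻¹ * k) := by rw [h3]; group
      _ = w * k := by rw [hcw]; group
  have h5 : u = (ε x)⁻¹ := by
    rw [hw] at hw1
    exact eq_inv_of_mul_eq_one_left hw1
  rw [h5]
  exact inv_mem hεV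

/-- **`Ω₁(Z(O₂(P))) = V`.** -/
theorem oz {u : G} (hu : u ∈ o2 P) (hu2 : u * u = 1) (hc : ∀ q ∈ o2 P, q * u = u * q) :
    u ∈ zl (S : Subgroup G) P := by
  have h1 : u ∈ zj (o2 P) := by
    have h2 : ∀ y ∈ jj (o2 P), y * u = u * y := fun y hy => hc y (jj_le _ hy)
    exact mem_zj.2 ⟨mem_jj_of_comm hu (by rw [pow_two, hu2]) h2, by rw [pow_two, hu2], h2⟩
  rcases alt h h1 with h2 | h2
  · exact h2
  · exfalso
    obtain ⟨q, hq, hqu⟩ := h2 _ (zz_mem h.ev 0)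
    rw [hc q hq, mul_inv_cancel_right, right_eq_mul] at hqu
    exact zz_ne_one h.ev h.three 0 hqu

/-- **`Ω₁(Z(J(S))) ≤ V`.** -/
theorem zj_le : zj (S : Subgroup G) ≤ zl (S : Subgroup G) P := by
  intro u hu
  rcases alt h (zj_le_zjQ h hu) with h1 | h1
  · exact h1
  exfalso
  have hV : zl (S : Subgroup G) P ≤ zj (S : Subgroup G) := by
    intro v hv
    obtain ⟨q, hq, hqu⟩ := h1 v hv
    have h2 : q * u * q⁻¹ ∈ zj (S : Subgroup G) := SQ1.Bau.In.T_norm_Z _ (h.QS hq) hu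
    rw [hqu] at h2
    have := mul_mem h2 (inv_mem hu)
    rwa [mul_inv_cancel_right] at this
  apply h.nJ
  intro j hj
  exact h.cS (jj_le _ hj) fun v hv => (mem_zj.1 (hV hv)).2.2 j hj

/-- `v ∈ V` is in `Ω₁(Z(J(S)))` iff it is centralised by `J(S)`. -/
theorem mem_zj_iff {v : G} : v ∈ zj (S : Subgroup G) ↔
    v ∈ zl (S : Subgroup G) P ∧ ∀ j ∈ jj (S : Subgroup G), j * v = v * j := by
  constructor
  · exact fun hv => ⟨zj_le h hv, (mem_zj.1 hv).2.2⟩
  · rintro ⟨hv, hc⟩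
    have hv2 : v ^ 2 = 1 := by rw [pow_two]; exact h.ev.sq_mem hv
    exact mem_zj.2 ⟨mem_jj_of_comm (h.QS (h.VQ hv)) hv2 hc, hv2, hc⟩

end

/-! ### LEMMA Q -/

/-- commuting with products -/
theorem comm_four {z y u u' : G} (h1 : z * y = y * z) (h2 : z * u = u * z) (h3 : z * u' = u' * z)
    {x : G} (hx : x = y ∨ x = y * u ∨ x = y * u' ∨ x = y * u * u') : z * x = x * z := by
  have c1 : Commute z y := h1
  have c2 : Commute z u := h2
  have c3 : Commute z u' := h3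
  rcases hx with rfl | rfl | rfl | rfl
  · exact c1
  · exact c1.mul_right c2
  · exact c1.mul_right c3
  · exact (c1.mul_right c2).mul_right c3

theorem comm_of_conj {z u : G} (h : z * u * z⁻¹ = u) : z * u = u * z := by
  calc z * u = (z * u * z⁻¹) * z := by group
    _ = u * z := by rw [h]

section core

variable (h : Hyp S P ε) {i j : Fin (2 ^ m + 1)} {A : Subgroup G} (hA : Ex P ε i j A) (hij : i ≠ j)
  {R : Subgroup G} {u v a u' : G} (hAR : A ⊓ centralizer (zl (S : Subgroup G) P : Set G) ≤ R)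
  (hu : u ∈ o2 P) (hu2 : u * u = 1) (hv : v ∈ zl (S : Subgroup G) P)
  (huR : ∀ r ∈ R, r * u * r⁻¹ = u ∨ r * u * r⁻¹ = v * u)
  (ha : a ∈ A) (ha' : Acts ε a (Equiv.swap i j)) (hva : a * v * a⁻¹ ≠ v)
  (hu' : u' = a * u * a⁻¹) (hc : u * u' = u' * u)
include h hA hij hAR hu hu2 hv huR ha ha' hva hu' hc

/-- **The step of LEMMA Q**: `u^a ∈ V u`. -/
theorem core : ∃ w ∈ zl (S : Subgroup G) P, u' = w * u := by
  classical
  obtain ⟨V, hV⟩ : ∃ V, V = zl (S : Subgroup G) P := ⟨_, rfl⟩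
  rw [← hV] at hv hAR ⊢
  set A0 := A ⊓ centralizer (V : Set G) with hA0
  have haP := hA.AP ha
  have haa : a * a = 1 := hA.sq ha
  have hVQ : V ≤ o2 P := hV ▸ h.VQ
  have hVcQ : ∀ {x v : G}, x ∈ o2 P → v ∈ V → x * v = v * x := fun hx hv => h.VcQ hx (hV ▸ hv)
  have hVn : ∀ {g x : G}, g ∈ P → x ∈ V → g * x * g⁻¹ ∈ V := fun hg hx => by
    rw [hV] at hx ⊢
    exact h.Vn hg hx
  have hu'Q : u' ∈ o2 P := hu' ▸ h.Qn haP hu
  have hu'2 : u' * u' = 1 := by
    calc u' * u' = a * (u * u) * a⁻¹ := by rw [hu']; group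
      _ = 1 := by rw [hu2]; group
  have hau' : a * u' * a⁻¹ = u := by
    calc a * u' * a⁻¹ = (a * a) * u * (a * a)⁻¹ := by rw [hu']; group
      _ = u := by rw [haa]; group
  have hVe : IsElementaryAbelian 2 V := hV ▸ V_elem h
  -- `X = V ⟨u⟩ ⟨u'⟩`
  set X1 := V ⊔ zpowers u with hX1
  have hVu : ∀ x ∈ V, ∀ y ∈ zpowers u, x * y = y * x := by
    intro x hx y hy
    rcases mem_zp hu2 hy with rfl | rfl
    · rw [mul_one, one_mul]
    · exact (hVcQ hu hx).symm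
  have hX1e : IsElementaryAbelian 2 X1 := sup_elem hVe (zp_elem hu2) hVu
  have hX1c : ∀ x ∈ X1, x * u' = u' * x := by
    intro x hx
    obtain ⟨y, hy, z, hz, rfl⟩ := mem_sup_comm hVu hx
    have e1 : y * u' = u' * y := (hVcQ hu'Q hy).symm
    rcases mem_zp hu2 hz with rfl | rfl
    · rw [mul_one]; exact e1
    · rw [mul_assoc, hc, ← mul_assoc, e1, mul_assoc]
  set X := X1 ⊔ zpowers u' with hX
  have hX1u : ∀ x ∈ X1, ∀ y ∈ zpowers u', x * y = y * x := by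
    intro x hx y hy
    rcases mem_zp hu'2 hy with rfl | rfl
    · rw [mul_one, one_mul]
    · exact hX1c x hx
  have hXe : IsElementaryAbelian 2 X := sup_elem hX1e (zp_elem hu'2) hX1u
  have hVX : V ≤ X := le_sup_left.trans le_sup_left
  have huX : u ∈ X := mem_sup_left (mem_sup_right (mem_zpowers u))
  have hu'X : u' ∈ X := mem_sup_right (mem_zpowers u')
  have hmemX : ∀ x ∈ X, ∃ y ∈ V, x = y ∨ x = y * u ∨ x = y * u' ∨ x = y * u * u' := by
    intro x hx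
    obtain ⟨y, hy, z, hz, rfl⟩ := mem_sup_comm hX1u hx
    obtain ⟨w, hw, t, ht, rfl⟩ := mem_sup_comm hVu hy
    refine ⟨w, hw, ?_⟩
    rcases mem_zp hu2 ht with rfl | rfl <;> rcases mem_zp hu'2 hz with rfl | rfl
    · left; rw [mul_one, mul_one]
    · right; right; left; rw [mul_one]
    · right; left; rw [mul_one]
    · right; right; right; rfl
  have hVc : ∀ b ∈ A0, ∀ y ∈ V, b * y = y * b := fun b hb y hy =>
    (mem_centralizer_iff.1 hb.2 y hy).symm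
  have hbu' : ∀ b ∈ A0, b * u' * b⁻¹ = a * (b * u * b⁻¹) * a⁻¹ := by
    intro b hb
    have e : b * a = a * b := elem_comm hA.elem b hb.1 a ha
    calc b * u' * b⁻¹ = (b * a) * u * (b * a)⁻¹ := by rw [hu']; group
      _ = a * (b * u * b⁻¹) * a⁻¹ := by rw [e]; group
  -- an element of `A0` centralising `u` centralises `X`
  have hcX : ∀ b ∈ A0, b * u * b⁻¹ = u → ∀ x ∈ X, b * x = x * b := by
    intro b hb hbu x hx
    obtain ⟨y, hy, hxy⟩ := hmemX x hx
    refine comm_four (hVc b hb y hy) (comm_of_conj hbu) (comm_of_conj ?_) hxy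
    rw [hbu' b hb, hbu, hu']
  by_cases hcase : ∀ b ∈ A0, b * u * b⁻¹ = u
  · -- `A0` centralises `X`
    have h1 := hA.transv h hij hXe (hV ▸ hVX) (fun b hb x hx => by
      rw [← hV] at hb
      exact hcX b hb (hcase b hb) x hx) ha huX
    rw [← hu'] at h1
    rcases h1 with h1 | h1
    · exact ⟨1, one_mem _, by rw [one_mul]; exact h1⟩
    · exact ⟨rr ε i j, hV ▸ rr_mem h.ev i j, by
        rw [h1]
        exact hVcQ hu (hV ▸ rr_mem h.ev i j)⟩
  · -- `A0` moves `u`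
    push Not at hcase
    obtain ⟨b₀, hb₀, hb₀u⟩ := hcase
    have hb₀u' := (huR b₀ (hAR hb₀)).resolve_left hb₀u
    by_contra hcon
    push Not at hcon
    have hv1 : v ≠ 1 := fun e => hb₀u (by rw [hb₀u', e, one_mul])
    obtain ⟨v', hv'⟩ : ∃ v', v' = a * v * a⁻¹ := ⟨_, rfl⟩
    rw [← hv'] at hva
    have hv'V : v' ∈ V := hv' ▸ hVn haP hv
    have hv'1 : v' ≠ 1 := by
      intro e
      apply hv1
      calc v = a⁻¹ * v' * a := by rw [hv']; group
        _ = 1 := by rw [e]; group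
    have hb₀u'' : b₀ * u' * b₀⁻¹ = v' * u' := by
      rw [hbu' b₀ hb₀, hb₀u', hv', hu']
      group
    have hb₀y : ∀ y ∈ V, b₀ * y * b₀⁻¹ = y := fun y hy => by
      rw [hVc b₀ hb₀ y hy, mul_inv_cancel_right]
    -- `C_X(b₀) = V`
    have hCX : ∀ x ∈ X, b₀ * x * b₀⁻¹ = x → x ∈ V := by
      intro x hx hfix
      obtain ⟨y, hy, rfl | rfl | rfl | rfl⟩ := hmemX x hx
      · exact hy
      · exfalso
        have e : b₀ * (y * u) * b₀⁻¹ = (b₀ * y * b₀⁻¹) * (b₀ * u * b₀⁻¹) := by group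
        rw [e, hb₀y y hy, hb₀u'] at hfix
        exact hv1 (mul_eq_right.1 (mul_left_cancel hfix))
      · exfalso
        have e : b₀ * (y * u') * b₀⁻¹ = (b₀ * y * b₀⁻¹) * (b₀ * u' * b₀⁻¹) := by group
        rw [e, hb₀y y hy, hb₀u''] at hfix
        exact hv'1 (mul_eq_right.1 (mul_left_cancel hfix))
      · exfalso
        have e : b₀ * (y * u * u') * b₀⁻¹ = (b₀ * y * b₀⁻¹) * ((b₀ * u * b₀⁻¹) * (b₀ * u' * b₀⁻¹)) := by
          group
        rw [e, hb₀y y hy, hb₀u', hb₀u'', mul_assoc y u u'] at hfix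
        have h1 := mul_left_cancel hfix
        have h2 : u * v' = v' * u := hVcQ hu hv'V
        have h3 : v * v' * (u * u') = u * u' := by
          calc v * v' * (u * u') = v * (v' * u) * u' := by group
            _ = v * (u * v') * u' := by rw [h2]
            _ = v * u * (v' * u') := by group
            _ = u * u' := h1
        have h4 : v * v' = 1 := mul_eq_right.1 h3
        apply hva
        calc v' = v⁻¹ * (v * v') := by group
          _ = v⁻¹ := by rw [h4, mul_one]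
          _ = v := inv_eq_of_mul_eq_one_left (h.ev.sq_mem (hV ▸ hv))
    have huV : u ∉ V := fun hh => hb₀u (hb₀y u hh)
    have hu'V : u' ∉ V := fun hh => huV (by
      have := hVn haP hh
      rwa [hau'] at this)
    have hcard1 : Nat.card X1 = 2 * Nat.card V := card_sup_zp hu2 huV fun y hy => (hVcQ hu hy).symm
    have hu'X1 : u' ∉ X1 := by
      intro hh
      obtain ⟨y, hy, z, hz, e⟩ := mem_sup_comm hVu hh
      rcases mem_zp hu2 hz with h1 | h1
      · rw [h1, mul_one] at e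
        exact hu'V (e ▸ hy)
      · rw [h1] at e
        exact hcon y hy e
    have hcard2 : Nat.card X = 2 * Nat.card X1 := card_sup_zp hu'2 hu'X1 hX1c
    -- `C_X(A) < V`
    have hCA : X ⊓ centralizer (A : Set G) ≤ V := fun x hx => hCX x hx.1 (by
      rw [mem_centralizer_iff.1 hx.2 b₀ hb₀.1, mul_inv_cancel_right])
    have hCA' : ¬ V ≤ X ⊓ centralizer (A : Set G) := fun hle => by
      have h1 := mem_centralizer_iff.1 (hle (hV ▸ zz_mem h.ev i)).2 a ha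
      have h2 := (h.ev.fixes_iff h.three ha' i).1 h1
      rw [Equiv.swap_apply_left] at h2
      exact hij h2.symm
    have hcard3 := two_mul_card_le hCA hCA'
    -- `|A| ≤ 4 |C_A(X)|`
    have hcard4 : Nat.card A0 ≤ 2 * Nat.card ↥(A ⊓ centralizer (X : Set G)) := by
      refine card_le_two (c := b₀) fun y hy hyC => ?_
      have hyu : y * u * y⁻¹ ≠ u := fun e => hyC
        ⟨hy.1, mem_centralizer_iff.2 fun x hx => (hcX y hy e x hx).symm⟩
      have hyu' := (huR y (hAR hy)).resolve_left hyu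
      have hb : b₀⁻¹ * y ∈ A0 := mul_mem (inv_mem hb₀) hy
      have e3 : b₀⁻¹ * y * u * (b₀⁻¹ * y)⁻¹ = u := by
        calc b₀⁻¹ * y * u * (b₀⁻¹ * y)⁻¹ = b₀⁻¹ * (y * u * y⁻¹) * b₀ := by group
          _ = b₀⁻¹ * (b₀ * u * b₀⁻¹) * b₀ := by rw [hyu', hb₀u']
          _ = u := by group
      exact ⟨hb.1, mem_centralizer_iff.2 fun x hx => (hcX _ hb e3 x hx).symm⟩
    have h1 := count hA.elem hXe hA.card
    have h2 := hA.card_A0 h hij
    rw [← hV, ← hA0] at h2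
    have hp : 0 < Nat.card V := Nat.card_pos
    have hp2 : 0 < Nat.card ↥(A ⊓ centralizer (X : Set G)) := Nat.card_pos
    have h3 : Nat.card A ≤ 4 * Nat.card ↥(A ⊓ centralizer (X : Set G)) := by omega
    have h4 : 2 * (Nat.card X * Nat.card ↥(A ⊓ centralizer (X : Set G))) ≤ Nat.card A * Nat.card V := by
      calc 2 * (Nat.card X * Nat.card ↥(A ⊓ centralizer (X : Set G)))
          ≤ 2 * (Nat.card A * Nat.card ↥(X ⊓ centralizer (A : Set G))) := Nat.mul_le_mul_left _ h1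
        _ = Nat.card A * (2 * Nat.card ↥(X ⊓ centralizer (A : Set G))) := by ring
        _ ≤ Nat.card A * Nat.card V := Nat.mul_le_mul_left _ hcard3
    have h5 : Nat.card X = 4 * Nat.card V := by rw [hcard2, hcard1]; ring
    rw [h5] at h4
    have h6 : Nat.card A * Nat.card V ≤ 4 * Nat.card ↥(A ⊓ centralizer (X : Set G)) * Nat.card V :=
      Nat.mul_le_mul_right _ h3
    nlinarith [Nat.mul_pos hp hp2]

end core

/-- **LEMMA Q.** -/
theorem mem (h : Hyp S P ε) {u v : G} (hu : u ∈ o2 P) (hu2 : u * u = 1)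
    (hv : v ∈ zl (S : Subgroup G) P) (hv1 : v ≠ 1)
    (hc : ∀ q ∈ o2 P, q * u * q⁻¹ = u ∨ q * u * q⁻¹ = v * u) : u ∈ zl (S : Subgroup G) P := by
  obtain ⟨x, hx⟩ := h.ev.surj v hv
  obtain ⟨j, hj⟩ := exists_ne h.ev (x := x) (by rw [hx]; exact hv1)
  have h0j : (0 : Fin (2 ^ m + 1)) ≠ j := fun e => hj (by rw [← e])
  obtain ⟨A, hA⟩ := exists_ex h h0j
  obtain ⟨a, ha, ha'⟩ := hA.ex
  have haP := hA.AP ha
  have hva : a * v * a⁻¹ ≠ v := by
    intro e
    rw [← hx] at e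
    exact hj ((swap_comm_iff h.ev h.three h0j ha' x).1 (comm_of_conj e))
  have hvv : v * v = 1 := h.ev.sq_mem hv
  obtain ⟨u', hu'⟩ : ∃ u', u' = a * u * a⁻¹ := ⟨_, rfl⟩
  obtain ⟨v', hv'⟩ : ∃ v', v' = a * v * a⁻¹ := ⟨_, rfl⟩
  have hu'Q : u' ∈ o2 P := hu' ▸ h.Qn haP hu
  have hu'2 : u' * u' = 1 := by
    calc u' * u' = a * (u * u) * a⁻¹ := by rw [hu']; group
      _ = 1 := by rw [hu2]; group
  have hv'V : v' ∈ zl (S : Subgroup G) P := hv' ▸ h.Vn haP hv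
  -- `[u', q] ∈ ⟨v^a⟩`
  have hc' : ∀ q ∈ o2 P, q * u' * q⁻¹ = u' ∨ q * u' * q⁻¹ = v' * u' := by
    intro q hq
    have hq' : a⁻¹ * q * a ∈ o2 P := by
      have := h.Qn (inv_mem haP) hq
      rwa [inv_inv] at this
    have e : q * u' * q⁻¹ = a * ((a⁻¹ * q * a) * u * (a⁻¹ * q * a)⁻¹) * a⁻¹ := by rw [hu']; group
    rcases hc _ hq' with h1 | h1
    · left; rw [e, h1, hu']
    · right; rw [e, h1, hu', hv']; group
  have hcomm : u * u' = u' * u := by
    rcases hc u' hu'Q with h1 | h1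
    · exact (comm_of_conj h1).symm
    · rcases hc' u hu with h2 | h2
      · exact comm_of_conj h2
      · exfalso
        apply hva
        have hui : u⁻¹ = u := inv_eq_of_mul_eq_one_left hu2
        have hui' : u'⁻¹ = u' := inv_eq_of_mul_eq_one_left hu'2
        rw [hui'] at h1
        rw [hui] at h2
        have e1 : v = u' * u * u' * u := by rw [h1, mul_assoc, hu2, mul_one]
        have e2 : v' = u * u' * u * u' := by rw [h2, mul_assoc, hu'2, mul_one]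
        have e3 : v' * v = 1 := by
          calc v' * v = u * u' * u * u' * (u' * u * u' * u) := by rw [← e1, ← e2]
            _ = u * u' * u * (u' * u') * u * u' * u := by group
            _ = u * u' * (u * u) * u' * u := by rw [hu'2]; group
            _ = u * (u' * u') * u := by rw [hu2]; group
            _ = 1 := by rw [hu'2, mul_one, hu2]
        rw [← hv']
        calc v' = v' * v * v⁻¹ := by group
          _ = v⁻¹ := by rw [e3, one_mul]
          _ = v := inv_eq_of_mul_eq_one_left hvv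
  obtain ⟨w, hw, hw'⟩ := core h hA h0j (R := o2 P)
    ((hA.A0_le h h0j).1.trans (jj_le _)) hu hu2 hv hc ha ha' hva hu' hcomm
  refine oz h hu hu2 fun q hq => ?_
  rcases hc q hq with h1 | h1
  · exact comm_of_conj h1
  · exfalso
    obtain ⟨q', hq'⟩ : ∃ q', q' = a * q * a⁻¹ := ⟨_, rfl⟩
    have hq'Q : q' ∈ o2 P := hq' ▸ h.Qn haP hq
    -- `q' (w u) q'⁻¹ = v^a w u`
    have e1 : q' * u' * q'⁻¹ = v' * u' := by
      calc q' * u' * q'⁻¹ = a * (q * u * q⁻¹) * a⁻¹ := by rw [hq', hu']; group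
        _ = v' * u' := by rw [h1, hu', hv']; group
    rw [hw'] at e1
    have e2 : q' * (w * u) * q'⁻¹ = w * (q' * u * q'⁻¹) := by
      calc q' * (w * u) * q'⁻¹ = (q' * w) * u * q'⁻¹ := by group
        _ = w * (q' * u * q'⁻¹) := by rw [h.VcQ hq'Q hw]; group
    rw [e2, ← mul_assoc v', h.ev.comm_mem hv'V hw, mul_assoc w v'] at e1
    have e3 := mul_left_cancel e1
    rcases hc q' hq'Q with h2 | h2
    · rw [h2, right_eq_mul] at e3
      apply hv1
      calc v = a⁻¹ * v' * a := by rw [hv']; group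
        _ = 1 := by rw [e3]; group
    · rw [h2] at e3
      rw [← hv'] at hva
      exact hva (mul_right_cancel e3).symm

end Cfsg.Agent.Omega.NSix.CaseJ.LemQ
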