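import Cfsg.Agent.Omega.NSix.CaseJ.Base

/-!
# OMEGA N6, case `J(S) ≰ O₂(P)`: exact offenders

* `Ex S P ε i j A` : `A ≤ P` is elementary abelian of maximal order in `G` and acts on `V` as `⟨(i j)⟩`;
* `exists_ex` : there is one for all `i ≠ j`;
* `Ex.A0_le` : `C_A(V) ≤ J(O₂(P))`;
* `Ex.count` : `|X| |C_A(X)| ≤ |A| |C_X(A)|`;
* `Ex.transv` : `A` acts as a transvection on every `X ≥ V` which is centralised by `C_A(V)`.
-/

set_option autoImplicit false
set_option linter.unusedSectionVars false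

namespace Cfsg.Agent.Omega.NSix.CaseJ.Exact

open Subgroup Cfsg Cfsg.Agent.PLocal.ThompsonJ Cfsg.Agent.ZN Cfsg.Agent.ZN.ChoiceBase
open Cfsg.Agent.ZN.ChoiceSit Cfsg.Agent.PLocal.ElemAbSup
open Cfsg.Agent.Omega.MinPar
open Cfsg.Agent.Omega.S5.Def Cfsg.Agent.Omega.S5.Syl Cfsg.Agent.Omega.S5.Pair
open Cfsg.Agent.Omega.NSix.Base Cfsg.Agent.Omega.NSix.Basic
open Cfsg.Agent.Omega.SQ1.Bau (mem_AA_of_comm elem_comm elem_sq mem_sup_comm card_sup_comm)
open Cfsg.Agent.Omega.NSix.CaseJ.Base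

universe u

variable {G : Type u} [Group G] [Finite G] {S : Sylow 2 G} {P : Subgroup G} {m : ℕ}
  {ε : (Fin (2 ^ m + 1) → ZMod 2) → G}

/-- An exact offender for the transposition `(i j)`. -/
structure Ex (P : Subgroup G) (ε : (Fin (2 ^ m + 1) → ZMod 2) → G) (i j : Fin (2 ^ m + 1))
    (A : Subgroup G) : Prop where
  elem : IsElementaryAbelian 2 A
  AP : A ≤ P
  card : ∀ B : Subgroup G, IsElementaryAbelian 2 B → Nat.card B ≤ Nat.card A
  act : ∀ a ∈ A, Acts ε a 1 ∨ Acts ε a (Equiv.swap i j)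
  ex : ∃ a ∈ A, Acts ε a (Equiv.swap i j)

/-- Elementary abelian 2-subgroups have order at most `mm S`. -/
theorem card_le_mm' (S : Sylow 2 G) {B : Subgroup G} (hB : IsElementaryAbelian 2 B) :
    Nat.card B ≤ mm (S : Subgroup G) := by
  obtain ⟨R, hR⟩ := (isPGroup_of_isElementaryAbelian hB).exists_le_sylow
  obtain ⟨g, hg⟩ := MulAction.exists_smul_eq G R S
  have h1 : (S : Subgroup G) = cj g (R : Subgroup G) := by
    rw [← hg, Sylow.coe_subgroup_smul]
    rfl
  rw [h1, mm_cj]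
  exact card_le_mm hB hR

theorem sup_elem {X Y : Subgroup G} (hX : IsElementaryAbelian 2 X) (hY : IsElementaryAbelian 2 Y)
    (h : ∀ x ∈ X, ∀ y ∈ Y, x * y = y * x) : IsElementaryAbelian 2 (X ⊔ Y : Subgroup G) :=
  isElementaryAbelian_sup hX hY fun y hy => mem_centralizer_iff.2 fun x hx => h x hx y hy

theorem zp_elem {x : G} (hx : x * x = 1) : IsElementaryAbelian 2 (zpowers x) :=
  isElementaryAbelian_zpowers (by rw [pow_two, hx])

/-- Index at most two. -/
theorem card_le_two {A C : Subgroup G} {c : G} (h : ∀ y ∈ A, y ∉ C → c⁻¹ * y ∈ C) :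
    Nat.card A ≤ 2 * Nat.card C := by
  classical
  have h1 : Nat.card A ≤ Nat.card (C × Bool) := by
    refine Nat.card_le_card_of_injective (fun y : A => if hy : (y : G) ∈ C then ((⟨y, hy⟩ : C), false)
      else ((⟨c⁻¹ * y, h y y.2 hy⟩ : C), true)) ?_
    intro y z hyz
    by_cases hy : (y : G) ∈ C
    · by_cases hz : (z : G) ∈ C
      · simp only [dif_pos hy, dif_pos hz, Prod.mk.injEq, Subtype.mk.injEq, and_true] at hyz
        exact Subtype.ext hyz
      · simp [dif_pos hy, dif_neg hz] at hyz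
    · by_cases hz : (z : G) ∈ C
      · simp [dif_neg hy, dif_pos hz] at hyz
      · simp only [dif_neg hy, dif_neg hz, Prod.mk.injEq, Subtype.mk.injEq, and_true] at hyz
        exact Subtype.ext (mul_left_cancel hyz)
  rw [Nat.card_prod] at h1
  simp only [Nat.card_eq_fintype_card, Fintype.card_bool] at h1 ⊢
  omega

/-- Index at least two. -/
theorem two_mul_card_le {A C : Subgroup G} (hCA : C ≤ A) (hne : ¬ A ≤ C) :
    2 * Nat.card C ≤ Nat.card A := by
  have h1 := Subgroup.card_dvd_of_le hCA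
  obtain ⟨k, hk⟩ := h1
  have h2 : Nat.card C ≠ Nat.card A := fun e => hne (Subgroup.eq_of_le_of_card_ge hCA e.ge).ge
  have h3 : 0 < Nat.card A := Nat.card_pos
  have h4 : 0 < Nat.card C := Nat.card_pos
  have hk2 : 2 ≤ k := by
    rcases k with _ | _ | k
    · omega
    · exfalso; apply h2; omega
    · omega
  rw [hk, mul_comm]
  exact Nat.mul_le_mul_left _ hk2

theorem sq_zpow {x : G} (hx : x * x = 1) (k : ℤ) : x ^ k = 1 ∨ x ^ k = x := by
  have h2 : x ^ (2 : ℤ) = 1 := by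
    rw [show (2 : ℤ) = 1 + 1 by norm_num, zpow_add, zpow_one, hx]
  rcases Int.emod_two_eq_zero_or_one k with h1 | h1
  · left
    rw [show k = 2 * (k / 2) by omega, zpow_mul, h2, one_zpow]
  · right
    rw [show k = 2 * (k / 2) + 1 by omega, zpow_add, zpow_mul, h2, one_zpow, one_mul, zpow_one]

theorem mem_zp {x y : G} (hx : x * x = 1) (hy : y ∈ zpowers x) : y = 1 ∨ y = x := by
  obtain ⟨k, rfl⟩ := mem_zpowers_iff.1 hy
  exact sq_zpow hx k

theorem card_sup_zp {X : Subgroup G} {x : G} (hx : x * x = 1) (hxX : x ∉ X)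
    (h : ∀ y ∈ X, y * x = x * y) : Nat.card ↥(X ⊔ zpowers x : Subgroup G) = 2 * Nat.card X := by
  have h1 := card_sup_comm (A := X) (B := zpowers x) (by
    intro y hy z hz
    rcases mem_zp hx hz with rfl | rfl
    · rw [one_mul, mul_one]
    · exact h y hy)
  have hx1 : x ≠ 1 := fun e => hxX (e ▸ one_mem X)
  have h2 : X ⊓ zpowers x = ⊥ := by
    rw [eq_bot_iff]
    intro z hz
    rcases mem_zp hx hz.2 with h3 | h3
    · exact h3
    · exact absurd (h3 ▸ hz.1) hxX
  have h3 : Nat.card (zpowers x) = 2 := by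
    rw [Nat.card_zpowers]
    exact orderOf_eq_prime (by rw [pow_two, hx]) hx1
  rw [h2, Subgroup.card_bot, mul_one, h3, mul_comm] at h1
  exact h1

/-- **The basic count.** -/
theorem count {A X : Subgroup G} (hA : IsElementaryAbelian 2 A) (hX : IsElementaryAbelian 2 X)
    (hc : ∀ B : Subgroup G, IsElementaryAbelian 2 B → Nat.card B ≤ Nat.card A) :
    Nat.card X * Nat.card ↥(A ⊓ centralizer (X : Set G)) ≤
      Nat.card A * Nat.card ↥(X ⊓ centralizer (A : Set G)) := by
  have hcm : ∀ x ∈ X, ∀ a ∈ A ⊓ centralizer (X : Set G), x * a = a * x := fun x hx a ha =>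
    mem_centralizer_iff.1 ha.2 x hx
  have h1 := sup_elem hX (isElementaryAbelian_mono hA inf_le_left) hcm
  have h2 := card_sup_comm hcm
  have h3 : Nat.card ↥(X ⊓ (A ⊓ centralizer (X : Set G))) ≤
      Nat.card ↥(X ⊓ centralizer (A : Set G)) :=
    Subgroup.card_le_of_le fun x hx => ⟨hx.1, mem_centralizer_iff.2 fun a ha => elem_comm hA a ha x hx.2.1⟩
  rw [← h2]
  exact Nat.mul_le_mul (hc _ h1) h3

/-! ### Existence -/

/-- Commuting transpositions: equal at a common point. -/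
theorem swap_comm_eq {n : ℕ} {i j k : Fin n} (hij : i ≠ j) (hik : i ≠ k)
    (h : Equiv.swap i j * Equiv.swap i k = Equiv.swap i k * Equiv.swap i j) : j = k := by
  by_contra hjk
  have h1 := congrArg (fun σ : Equiv.Perm (Fin n) => σ k) h
  simp only [Equiv.Perm.mul_apply, Equiv.swap_apply_right, Equiv.swap_apply_left] at h1
  rw [Equiv.swap_apply_of_ne_of_ne (Ne.symm hik) (Ne.symm hjk), Equiv.swap_apply_right] at h1
  exact hij h1.symm

section

variable (h : Hyp S P ε)
include h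

/-- Two elements of an abelian `A ≤ S` moving `i` move it to the same point. -/
theorem same_image {A : Subgroup G} (hA : IsElementaryAbelian 2 A) (hs : Side A ε)
    {a b : G} (ha : a ∈ A) (hb : b ∈ A) {σ τ : Equiv.Perm (Fin (2 ^ m + 1))} (hσ : Acts ε a σ)
    (hτ : Acts ε b τ) {i : Fin (2 ^ m + 1)} (h1 : σ i ≠ i) (h2 : τ i ≠ i) : σ i = τ i := by
  obtain ⟨σ', hσ', h3⟩ := hs a ha
  obtain rfl := h.ev.acts_unique h.three hσ hσ'
  obtain ⟨τ', hτ', h4⟩ := hs b hb
  obtain rfl := h.ev.acts_unique h.three hτ hτ'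
  obtain ⟨-, c, hc, hc'⟩ := h3 i h1
  obtain ⟨-, d, hd, hd'⟩ := h4 i h2
  have e1 := hc'.mul hd'
  have e2 := hd'.mul hc'
  rw [elem_comm hA c hc d hd] at e1
  exact swap_comm_eq h1.symm h2.symm (h.ev.acts_unique h.three e1 e2)

/-- **An exact offender in `S`.** -/
theorem exists_ex_S : ∃ A ∈ AA (S : Subgroup G), ∃ i j, i ≠ j ∧ Ex P ε i j A := by
  classical
  set V := zl (S : Subgroup G) P with hV
  have hne : ∃ A ∈ AA (S : Subgroup G), ¬ A ≤ centralizer (V : Set G) := by
    by_contra hcon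
    push Not at hcon
    apply h.nJ
    rw [jj_eq]
    refine sSup_le fun A hA a ha => h.cS (hA.2.1 ha) fun v hv => ?_
    exact (mem_centralizer_iff.1 (hcon A hA ha) v hv).symm
  obtain ⟨A, ⟨hA, hAV⟩, hmax⟩ := Set.exists_max_image
    {A : Subgroup G | A ∈ AA (S : Subgroup G) ∧ ¬ A ≤ centralizer (V : Set G)}
    (fun A => Nat.card ↥(A ⊓ centralizer (V : Set G))) (Set.toFinite _)
    (by obtain ⟨A, h1, h2⟩ := hne; exact ⟨A, h1, h2⟩)
  have hs := h.side hA
  obtain ⟨a, ha, haV⟩ := SetLike.not_le_iff_exists.1 hAV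
  obtain ⟨τ, hτ, hτ'⟩ := hs a ha
  have hτ1 : ∃ i, τ i ≠ i := by
    by_contra hcon
    push Not at hcon
    have e1 : τ = 1 := Equiv.ext hcon
    rw [e1] at hτ
    exact haV (h.ev.acts_one_iff.1 hτ)
  obtain ⟨p, hp⟩ := hτ1
  obtain ⟨-, b, hb, hb'⟩ := hτ' p hp
  set q := τ p with hq
  have key : ∀ c ∈ A, ∀ σ, Acts ε c σ → ∀ i, i ≠ p → i ≠ q → σ i = i := by
    intro c hc σ hσ i hip hiq
    by_contra hne'
    -- the vector `x = z_i`
    set x := zz ε i with hx
    have hxV : x ∈ V := zz_mem h.ev i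
    have hxx : x * x = 1 := zz_sq h.ev i
    have hxS : x ∈ (S : Subgroup G) := h.QS (h.VQ hxV)
    have hbx : b * x = x * b := by
      refine (h.ev.fixes_iff h.three hb' i).2 ?_
      exact Equiv.swap_apply_of_ne_of_ne hip hiq
    have hcx : c * x ≠ x * c := fun e => hne' ((h.ev.fixes_iff h.three hσ i).1 e)
    have hxA : x ∉ A := fun hxA => hcx (elem_comm hA.1 c hc x hxA)
    have hcent : ∀ y ∈ A ⊓ centralizer ({x} : Set G), y * x = x * y := fun y hy =>
      mem_centralizer_singleton_iff.1 hy.2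
    -- index two
    have hidx : Nat.card A ≤ 2 * Nat.card ↥(A ⊓ centralizer ({x} : Set G)) := by
      refine card_le_two (c := c) fun y hy hyC => ?_
      obtain ⟨σ', hσ'⟩ := h.ev.perm y (h.SP (hA.2.1 hy))
      have h8 : σ' i ≠ i := fun e => hyC ⟨hy, mem_centralizer_singleton_iff.2
        ((h.ev.fixes_iff h.three hσ' i).2 e)⟩
      have h9 : σ' i = σ i := same_image h hA.1 hs hy hc hσ' hσ h8 hne'
      refine ⟨A.mul_mem (A.inv_mem hc) hy, mem_centralizer_singleton_iff.2 ?_⟩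
      refine (h.ev.fixes_iff h.three (hσ.inv.mul hσ') i).2 ?_
      rw [Equiv.Perm.mul_apply, h9]
      exact σ.symm_apply_apply i
    set A' := (A ⊓ centralizer ({x} : Set G)) ⊔ zpowers x with hA'
    have hA'e : IsElementaryAbelian 2 A' := sup_elem (isElementaryAbelian_mono hA.1 inf_le_left)
      (zp_elem hxx) fun y hy z hz => by
        rcases mem_zp hxx hz with rfl | rfl
        · rw [mul_one, one_mul]
        · exact hcent y hy
    have hA'c : Nat.card A' = 2 * Nat.card ↥(A ⊓ centralizer ({x} : Set G)) :=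
      card_sup_zp hxx (fun hh => hxA hh.1) hcent
    have hA'S : A' ≤ (S : Subgroup G) := sup_le (inf_le_left.trans hA.2.1) (by rwa [zpowers_le])
    have hA'A : A' ∈ AA (S : Subgroup G) := by
      rw [mem_AA_iff]
      refine ⟨hA'e, hA'S, ?_⟩
      rw [mm_eq hA, hA'c]
      exact hidx
    have hbA' : b ∈ A' := mem_sup_left ⟨hb, mem_centralizer_singleton_iff.2 hbx⟩
    have hA'V : ¬ A' ≤ centralizer (V : Set G) := fun hle => by
      have h5 := h.ev.acts_one_iff.2 (hle hbA')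
      have h6 := h.ev.acts_unique h.three h5 hb'
      have h7 := Equiv.swap_apply_left p q
      rw [← h6] at h7
      exact hp h7.symm
    have h5 := hmax A' ⟨hA'A, hA'V⟩
    have h6 : A ⊓ centralizer (V : Set G) ≤ A' ⊓ centralizer (V : Set G) := fun y hy =>
      ⟨mem_sup_left ⟨hy.1, mem_centralizer_singleton_iff.2 (mem_centralizer_iff.1 hy.2 x hxV).symm⟩, hy.2⟩
    have h7 := Subgroup.eq_of_le_of_card_ge h6 h5
    apply hxA
    have h8 : x ∈ A' ⊓ centralizer (V : Set G) := ⟨mem_sup_right (mem_zpowers x),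
      mem_centralizer_iff.2 fun v hv => h.ev.comm_mem hv hxV⟩
    rw [← h7] at h8
    exact h8.1
  refine ⟨A, hA, p, q, hp.symm, hA.1, hA.2.1.trans h.SP, fun B hB => ?_, fun c hc => ?_, b, hb, hb'⟩
  · rw [← mm_eq hA]
    exact card_le_mm' S hB
  · obtain ⟨σ, hσ⟩ := h.ev.perm c (h.SP (hA.2.1 hc))
    have h1 := key c hc σ hσ
    by_cases h2 : σ p = p
    · left
      have h3 : σ q = q := by
        by_contra h3
        have h4 : σ q ≠ p := fun e => hp (σ.injective (e.trans h2.symm))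
        have h5 := h1 (σ q) h4 h3
        exact h3 (σ.injective h5)
      have e : σ = 1 := Equiv.ext fun i => by
        by_cases hip : i = p
        · rw [hip, h2]; rfl
        · by_cases hiq : i = q
          · rw [hiq, h3]; rfl
          · exact h1 i hip hiq
      rwa [e] at hσ
    · right
      have h3 : σ p = q := by
        by_contra h3
        exact h2 (σ.injective (h1 (σ p) h2 h3))
      have h4 : σ q = p := by
        by_contra h4
        have h5 : σ q ≠ q := fun e => hp (σ.injective (h3.trans e.symm)).symm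
        have h6 := h1 (σ q) h4 h5
        exact h5 (σ.injective h6)
      have e : σ = Equiv.swap p q := Equiv.ext fun i => by
        by_cases hip : i = p
        · rw [hip, h3, Equiv.swap_apply_left]
        · by_cases hiq : i = q
          · rw [hiq, h4, Equiv.swap_apply_right]
          · rw [h1 i hip hiq, Equiv.swap_apply_of_ne_of_ne hip hiq]
      rwa [e] at hσ

end

theorem Ex.conj {i j : Fin (2 ^ m + 1)} {A : Subgroup G} (hA : Ex P ε i j A) {g : G} (hg : g ∈ P)
    {σ : Equiv.Perm (Fin (2 ^ m + 1))} (hσ : Acts ε g σ) : Ex P ε (σ i) (σ j) (cj g A) where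
  elem := isElementaryAbelian_cj g hA.elem
  AP := by
    rintro _ ⟨a, ha, rfl⟩
    exact P.mul_mem (P.mul_mem hg (hA.AP ha)) (P.inv_mem hg)
  card B hB := by
    rw [card_cj]
    exact hA.card B hB
  act := by
    rintro _ ⟨a, ha, rfl⟩
    rcases hA.act a ha with h1 | h1
    · left
      have := hσ.conj h1
      rwa [mul_one, mul_inv_cancel] at this
    · right
      have := hσ.conj h1
      rwa [← Equiv.swap_apply_apply] at this
  ex := by
    obtain ⟨a, ha, h1⟩ := hA.ex
    refine ⟨_, ⟨a, ha, rfl⟩, ?_⟩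
    have := hσ.conj h1
    rwa [← Equiv.swap_apply_apply] at this

/-- **Exact offenders for all transpositions.** -/
theorem exists_ex (h : Hyp S P ε) {i j : Fin (2 ^ m + 1)} (hij : i ≠ j) : ∃ A, Ex P ε i j A := by
  obtain ⟨A, -, p, q, hpq, hA⟩ := exists_ex_S h
  obtain ⟨σ, h1, h2, -⟩ := exists_perm hpq hij
  obtain ⟨g, hg, hσ⟩ := h.ev.full σ
  have := hA.conj hg hσ
  rw [h1, h2] at this
  exact ⟨_, this⟩

namespace Ex

variable {i j : Fin (2 ^ m + 1)} {A : Subgroup G} (hA : Ex P ε i j A) (h : Hyp S P ε)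
include hA

theorem sq {a : G} (ha : a ∈ A) : a * a = 1 := by
  have := elem_sq hA.elem a ha
  rwa [pow_two] at this

include h

theorem mem_A0 {a : G} :
    a ∈ A ⊓ centralizer (zl (S : Subgroup G) P : Set G) ↔ a ∈ A ∧ Acts ε a 1 := by
  rw [mem_inf, h.ev.acts_one_iff]

theorem card_A0 (hij : i ≠ j) :
    Nat.card A = 2 * Nat.card ↥(A ⊓ centralizer (zl (S : Subgroup G) P : Set G)) := by
  obtain ⟨a, ha, ha'⟩ := hA.ex
  refine le_antisymm (card_le_two (c := a) fun y hy hyC => ?_) (two_mul_card_le inf_le_left fun hle => ?_)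
  · rcases hA.act y hy with h1 | h1
    · exact absurd ((hA.mem_A0 h).2 ⟨hy, h1⟩) hyC
    · exact (hA.mem_A0 h).2 ⟨A.mul_mem (A.inv_mem ha) hy,
        h.ev.acts_one_iff.2 (h.ev.mem_centralizer_of_acts h1 ha')⟩
  · have h1 := ((hA.mem_A0 h).1 (hle ha)).2
    have h2 := h.ev.acts_unique h.three h1 ha'
    have h3 := Equiv.swap_apply_left i j
    rw [← h2] at h3
    exact hij h3

/-- `[V, A] = ⟨r_ij⟩`. -/
theorem comm_V {a v : G} (ha : a ∈ A) (hv : v ∈ zl (S : Subgroup G) P) :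
    a * v * a⁻¹ = v ∨ a * v * a⁻¹ = v * rr ε i j := by
  obtain ⟨x, rfl⟩ := h.ev.surj v hv
  rcases hA.act a ha with h1 | h1
  · left
    exact h1 x
  · by_cases hx : x i = x j
    · left
      rw [(acts_swap h.ev h1 x).1 hx, mul_inv_cancel_right]
    · right
      rw [(acts_swap h.ev h1 x).2 hx, rr_eq h.ev]

theorem norm_V {a v : G} (ha : a ∈ A) (hv : v ∈ zl (S : Subgroup G) P) :
    a * v * a⁻¹ ∈ zl (S : Subgroup G) P := h.Vn (hA.AP ha) hv

/-- `C_A(V) V` is elementary abelian of maximal order. -/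
theorem A0_le (hij : i ≠ j) :
    A ⊓ centralizer (zl (S : Subgroup G) P : Set G) ≤ jj (o2 P) ∧
      mm (o2 P) = Nat.card A := by
  set V := zl (S : Subgroup G) P with hV
  set A0 := A ⊓ centralizer (V : Set G) with hA0
  have hA0Q : A0 ≤ o2 P := by
    intro a ha
    refine h.two (hA.AP ha.1) (fun v hv => (mem_centralizer_iff.1 ha.2 v hv).symm) ⟨1, ?_⟩
    rw [pow_one, pow_two]
    exact hA.sq ha.1
  have hVe : IsElementaryAbelian 2 V := isElementaryAbelian_iff.2
    ⟨fun x hx y hy => h.ev.comm_mem hx hy, fun x hx => by rw [pow_two]; exact h.ev.sq_mem hx⟩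
  have hcm : ∀ a ∈ A0, ∀ v ∈ V, a * v = v * a := fun a ha v hv => h.VcQ (hA0Q ha) hv
  have he := sup_elem (isElementaryAbelian_mono hA.elem inf_le_left) hVe hcm
  have hQ : A0 ⊔ V ≤ o2 P := sup_le hA0Q h.VQ
  have h1 := card_sup_comm hcm
  obtain ⟨a, ha, ha'⟩ := hA.ex
  have h2 : 2 * Nat.card ↥(A0 ⊓ V) ≤ Nat.card V := by
    refine two_mul_card_le inf_le_right fun hle => ?_
    -- `A` does not centralise `z_i`
    have h3 := (hle (zz_mem h.ev i)).1.1
    have h4 := (h.ev.fixes_iff h.three ha' i).1 (elem_comm hA.elem a ha _ h3)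
    rw [Equiv.swap_apply_left] at h4
    exact hij h4.symm
  have h3 : Nat.card A ≤ Nat.card ↥(A0 ⊔ V : Subgroup G) := by
    have hp : 0 < Nat.card ↥(A0 ⊓ V) := Nat.card_pos
    have h4 : Nat.card A * Nat.card ↥(A0 ⊓ V) ≤ Nat.card ↥(A0 ⊔ V : Subgroup G) * Nat.card ↥(A0 ⊓ V) := by
      rw [h1, hA.card_A0 h hij]
      calc 2 * Nat.card A0 * Nat.card ↥(A0 ⊓ V) = Nat.card A0 * (2 * Nat.card ↥(A0 ⊓ V)) := by ring
        _ ≤ Nat.card A0 * Nat.card V := Nat.mul_le_mul_left _ h2
    exact Nat.le_of_mul_le_mul_right h4 hp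
  have h4 : A0 ⊔ V ∈ AA (o2 P) := ⟨he, hQ, fun B hB _ => (hA.card B hB).trans h3⟩
  exact ⟨le_sup_left.trans (le_jj h4), (mm_eq h4).trans (le_antisymm (hA.card _ he) h3)⟩

/-- **`A` is a transvection on every `X ≥ V` which is centralised by `C_A(V)`.** -/
theorem transv (hij : i ≠ j) {X : Subgroup G} (hX : IsElementaryAbelian 2 X)
    (hVX : zl (S : Subgroup G) P ≤ X)
    (hc : ∀ a ∈ A ⊓ centralizer (zl (S : Subgroup G) P : Set G), ∀ x ∈ X, a * x = x * a)
    {a x : G} (ha : a ∈ A) (hx : x ∈ X) : a * x * a⁻¹ = x ∨ a * x * a⁻¹ = x * rr ε i j := by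
  set V := zl (S : Subgroup G) P with hV
  set A0 := A ⊓ centralizer (V : Set G) with hA0
  have h1 := count hA.elem hX hA.card
  have h2 : A ⊓ centralizer (X : Set G) = A0 := by
    apply le_antisymm
    · exact fun b hb => ⟨hb.1, mem_centralizer_iff.2 fun v hv => mem_centralizer_iff.1 hb.2 v (hVX hv)⟩
    · exact fun b hb => ⟨hb.1, mem_centralizer_iff.2 fun v hv => (hc b hb v hv).symm⟩
  rw [h2, hA.card_A0 h hij] at h1
  set C := X ⊓ centralizer (A : Set G) with hC
  have hA0p : 0 < Nat.card A0 := Nat.card_pos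
  have h3 : Nat.card X ≤ 2 * Nat.card C := by
    have h4 : Nat.card A0 * Nat.card X ≤ Nat.card A0 * (2 * Nat.card C) := by
      calc Nat.card A0 * Nat.card X = Nat.card X * Nat.card A0 := mul_comm _ _
        _ ≤ 2 * Nat.card A0 * Nat.card C := h1
        _ = Nat.card A0 * (2 * Nat.card C) := by ring
    exact Nat.le_of_mul_le_mul_left h4 hA0p
  obtain ⟨b, hb, hb'⟩ := hA.ex
  have hcm : ∀ v ∈ V, ∀ c ∈ C, v * c = c * v := fun v hv c hc' => elem_comm hX v (hVX hv) c hc'.1
  have h5 : C ≤ V ⊔ C := le_sup_right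
  have h6 : ¬ V ⊔ C ≤ C := fun hle => by
    have h7 := mem_centralizer_iff.1 (hle (mem_sup_left (zz_mem h.ev i))).2 b hb
    have h8 := (h.ev.fixes_iff h.three hb' i).1 h7
    rw [Equiv.swap_apply_left] at h8
    exact hij h8.symm
  have h7 := two_mul_card_le h5 h6
  have h8 : V ⊔ C = X := Subgroup.eq_of_le_of_card_ge (sup_le hVX inf_le_left) (h3.trans h7)
  rw [← h8] at hx
  obtain ⟨v, hv, c, hc', rfl⟩ := mem_sup_comm hcm hx
  have e1 : a * c * a⁻¹ = c := by
    rw [mem_centralizer_iff.1 hc'.2 a ha, mul_inv_cancel_right]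
  have e2 : a * (v * c) * a⁻¹ = a * v * a⁻¹ * (a * c * a⁻¹) := by group
  rw [e2, e1]
  rcases hA.comm_V h ha hv with h9 | h9
  · left; rw [h9]
  · right
    rw [h9, mul_assoc, mul_assoc, hcm _ (rr_mem h.ev i j) c hc']

end Ex

end Cfsg.Agent.Omega.NSix.CaseJ.Exact
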