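import Cfsg.Agent.Omega.NSix.CaseJ.OfEven
import Cfsg.Agent.Omega.OM.ROneSymT
import Cfsg.Agent.Omega.NSix.Basic

/-!
# OMEGA N6, case `J(S) ≰ O₂(P)` (bb #16037, #16600): the frame

* `Hyp S P ε` : `P ∈ P*(S)`, `V = V_P` is the even-subset module of degree `n = 2^m + 1` (labels `ε`, the label `0`
  is fixed by `S`), offenders are generated by transpositions, `J(S) ≰ O₂(P)`;
* `Dat` : the pairs `{X i, Y i}` of the matching, with `BauS.In` (Baumann argument);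
* `Ex` : exact offenders: `A` elementary abelian of maximal order which acts on `V` as `⟨(i j)⟩`.
-/

set_option autoImplicit false
set_option linter.unusedSectionVars false

namespace Cfsg.Agent.Omega.NSix.CaseJ.Base

open Subgroup Cfsg Cfsg.Agent.PLocal.ThompsonJ Cfsg.Agent.ZN Cfsg.Agent.ZN.ChoiceBase
open Cfsg.Agent.ZN.ChoiceSit Cfsg.Agent.PLocal.ElemAbSup
open Cfsg.Agent.Omega.MinPar
open Cfsg.Agent.Omega.S5.Def Cfsg.Agent.Omega.S5.Syl Cfsg.Agent.Omega.S5.Pair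
open Cfsg.Agent.Omega.S5.Of (hat)
open Cfsg.Agent.Omega.NSix.Base Cfsg.Agent.Omega.NSix.Basic
open Cfsg.Agent.Omega.SQ1 Cfsg.Agent.Omega.SQ1.FFOne Cfsg.Agent.Omega.SQ1.FFSym
open Cfsg.Agent.Omega.FFThm (ActsSym SymK NoOver Off)
open Cfsg.Agent.Omega.SQ1.BauS (Sim)
open Cfsg.Agent.Omega.NSix.CaseJ.OfEven

universe u

variable {G : Type u} [Group G] [Finite G] {S : Sylow 2 G} {P : Subgroup G} {m : ℕ}
  {ε : (Fin (2 ^ m + 1) → ZMod 2) → G}

/-- `P ∈ P*(S)` with the even-subset module `V_P` and `J(S) ≰ O₂(P)`. -/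
structure Hyp (S : Sylow 2 G) (P : Subgroup G) {m : ℕ} (ε : (Fin (2 ^ m + 1) → ZMod 2) → G) : Prop where
  hG : IsCharacteristicTwoType G
  hP : IsParS (S : Subgroup G) P
  hm : 2 ≤ m
  ev : EvenSet (2 ^ m + 1) (zl (S : Subgroup G) P) P ε
  fix0 : Fix0 ε (S : Subgroup G)
  off : ∀ A : Subgroup G, A ≤ (S : Subgroup G) → Off (zl (S : Subgroup G) P) A → Side A ε
  nJ : ¬ jj (S : Subgroup G) ≤ o2 P

namespace Hyp

variable (h : Hyp S P ε)
include h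

theorem minH : MinH P (S : Subgroup G) :=
  minH_of ⟨h.hP.isLoc.le, S.isPGroup', fun _ _ hT hST => S.is_maximal' hT hST⟩ h.hP.toIsMinPar
    (h.hP.isLoc.char2 S h.hG)

theorem SP : (S : Subgroup G) ≤ P := h.hP.isLoc.le

theorem five : 5 ≤ 2 ^ m + 1 := five_le h.hm

theorem three : 3 ≤ 2 ^ m + 1 := by have := h.five; omega

theorem syT : SyT (S : Subgroup G) P (o2 P) (zl (S : Subgroup G) P) ⊥ (0 : Fin (2 ^ m + 1)) (ee ε) :=
  OM.syT_of h.minH h.nJ (symK h.ev (by have := h.hm; omega) h.SP h.fix0 h.off) one_pos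
    (by have := h.hm; omega) bot_le (fun g _ v hv => by
      rw [mem_bot.1 hv, mul_one, mul_inv_cancel]; exact one_mem _)

theorem QS : o2 P ≤ (S : Subgroup G) := h.syT.QT

theorem VQ : zl (S : Subgroup G) P ≤ o2 P := h.syT.VQ

theorem QP : o2 P ≤ P := h.QS.trans h.SP

theorem Qn {g x : G} (hg : g ∈ P) (hx : x ∈ o2 P) : g * x * g⁻¹ ∈ o2 P := h.syT.Qn g hg x hx

theorem Vn {g x : G} (hg : g ∈ P) (hx : x ∈ zl (S : Subgroup G) P) :
    g * x * g⁻¹ ∈ zl (S : Subgroup G) P := h.syT.Vn g hg x hx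

theorem VcQ {x v : G} (hx : x ∈ o2 P) (hv : v ∈ zl (S : Subgroup G) P) : x * v = v * x :=
  h.syT.VcQ x hx v hv

theorem cS {x : G} (hx : x ∈ (S : Subgroup G)) (hc : ∀ v ∈ zl (S : Subgroup G) P, x * v = v * x) :
    x ∈ o2 P := h.syT.cT x hx hc

/-- 2-elements of `C_P(V)` lie in `O₂(P)`. -/
theorem two {x : G} (hx : x ∈ P) (hc : ∀ v ∈ zl (S : Subgroup G) P, x * v = v * x)
    (h2 : ∃ n : ℕ, x ^ 2 ^ n = 1) : x ∈ o2 P := by
  obtain ⟨g, hg, hgS⟩ := h.syT.syl x hx h2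
  have h1 : g * x * g⁻¹ ∈ o2 P := by
    refine h.cS hgS fun v hv => ?_
    have h3 : g⁻¹ * v * g ∈ zl (S : Subgroup G) P := by
      have := h.Vn (inv_mem hg) hv
      rwa [inv_inv] at this
    calc g * x * g⁻¹ * v = g * (x * (g⁻¹ * v * g)) * g⁻¹ := by group
      _ = g * ((g⁻¹ * v * g) * x) * g⁻¹ := by rw [hc _ h3]
      _ = v * (g * x * g⁻¹) := by group
  have h2 := h.Qn (inv_mem hg) h1
  have e1 : g⁻¹ * (g * x * g⁻¹) * g⁻¹⁻¹ = x := by group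
  rwa [e1] at h2

/-- Offenders of maximal order in `S` act by disjoint transpositions. -/
theorem side {A : Subgroup G} (hA : A ∈ AA (S : Subgroup G)) : Side A ε := by
  by_cases hne : A ≤ centralizer (zl (S : Subgroup G) P : Set G)
  · intro a ha
    exact ⟨1, h.ev.acts_one_iff.2 (hne ha), fun i hi => absurd rfl hi⟩
  · exact h.off A hA.2.1 (FFOf.off_of_AA h.minH hA hne)

end Hyp

/-- The pairs `{X i, Y i}` of the matching, and the elements for the Baumann argument. -/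
structure Dat (S : Sylow 2 G) (P : Subgroup G) (ε : (Fin (2 ^ m + 1) → ZMod 2) → G) {ι : Type}
    (X Y : ι → Fin (2 ^ m + 1)) (N : ι → Subgroup G) (t r : ι → G) : Prop where
  bas : BauS.In P (S : Subgroup G) (o2 P) (zl (S : Subgroup G) P) N (fun i => rr ε (X i) (Y i)) t r
  permR : BauS.PermR (S : Subgroup G) (zl (S : Subgroup G) P) (fun i => rr ε (X i) (Y i)) r
  tA : ∀ i, Acts ε (t i) (Equiv.swap (X i) (Y i))
  rA : ∀ i, Acts ε (r i) (cyc 0 (X i) (Y i))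
  ne : ∀ i, X i ≠ Y i
  X0 : ∀ i, X i ≠ 0
  Y0 : ∀ i, Y i ≠ 0
  cov : ∀ x, x ≠ 0 → ∃ i, X i = x ∨ Y i = x
  disj : ∀ i j, i ≠ j → X i ≠ X j ∧ X i ≠ Y j ∧ Y i ≠ X j ∧ Y i ≠ Y j
  memN : ∀ i v, v ∈ N i ↔ v = 1 ∨ v = rr ε 0 (X i) ∨ v = rr ε 0 (Y i) ∨ v = rr ε (X i) (Y i)

theorem sum_pair {n : ℕ} (a b : Fin n) :
    ∑ x, ((Pi.single a 1 + Pi.single b 1 : Fin n → ZMod 2)) x = 0 := by
  simp only [Pi.add_apply, Finset.sum_add_distrib, Finset.sum_pi_single', Finset.mem_univ, if_true]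
  decide

theorem rr_eq (h : EvenSet (2 ^ m + 1) (zl (S : Subgroup G) P) P ε) (a b : Fin (2 ^ m + 1)) :
    rr ε a b = ε (Pi.single a 1 + Pi.single b 1) := (h.add _ _).symm

theorem Hyp.u_eq (h : Hyp S P ε) (j : Fin 1) (a b : Fin (2 ^ m + 1)) :
    u P (zl (S : Subgroup G) P) ⊥ (ee ε) j a b = rr ε a b := by
  have hm : 1 ≤ m := by have := h.hm; omega
  rw [← mul_inv_eq_one, rr_inv h.ev]
  refine mem_bot.1 (h.syT.toSy.e_eq (h.syT.toSy.u_mem j a b) (rr_mem h.ev a b) ?_)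
  rw [h.syT.toSy.e_u]
  have hj : j = 0 := Subsingleton.elim _ _
  subst hj
  funext i x
  have hi : i = 0 := Subsingleton.elim _ _
  subst hi
  change (E 0 a + E 0 b : Fin 1 → Fin (2 ^ m + 1) → ZMod 2) 0 x = co ε (rr ε a b) x
  rw [rr_eq h.ev, co_eps h.ev hm, hat_of_sum (sum_pair a b)]
  simp only [Pi.add_apply, E, true_and, Pi.single_apply]

theorem Hyp.exists_dat (h : Hyp S P ε) : ∃ (ι : Type) (X Y : ι → Fin (2 ^ m + 1)) (N : ι → Subgroup G)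
    (t r : ι → G), Nonempty ι ∧ Dat S P ε X Y N t r := by
  have hm : 1 ≤ m := by have := h.hm; omega
  obtain ⟨ι, J, X, Y, t, r, hc⟩ := h.syT.exists_ch
  obtain ⟨j, x, y, hT⟩ := h.syT.exists_tr
  obtain ⟨i, -⟩ := hc.ex j x y hT
  have hJ : ∀ i, J i = 0 := fun i => Subsingleton.elim _ _
  have hact : ∀ {g : G} {τ : Fin 1 → Equiv.Perm (Fin (2 ^ m + 1))},
      Gd P (zl (S : Subgroup G) P) ⊥ (ee ε) τ g → Acts ε g (τ 0) := fun {g τ} hg =>
    (actsSym_iff h.ev hm fun v hv => h.Vn hg.mem hv).1 hg.act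
  refine ⟨ι, X, Y, fun i => h.syT.NN (J i) 0 (X i) (Y i), t, r, ⟨i⟩, ?_⟩
  have e1 : (fun i => u P (zl (S : Subgroup G) P) ⊥ (ee ε) (J i) (X i) (Y i)) =
      fun i => rr ε (X i) (Y i) := funext fun i => h.u_eq _ _ _
  have h1 := hc.main h.syT SymCyc.exists_pow
  have h2 := hc.permR h.syT
  rw [e1] at h1 h2
  refine ⟨h1, h2, fun i => ?_, fun i => ?_, fun i => (hc.tr i).1, fun i => ((hc.tr i).ne h.syT).1.symm,
    fun i => ((hc.tr i).ne h.syT).2.symm, fun x hx => ?_, fun i j hij => ?_, fun i v => ?_⟩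
  · have := hact (hc.tg i)
    rwa [hJ i, Pi.mulSingle_eq_same] at this
  · have := hact (hc.rg i)
    rwa [hJ i, Pi.mulSingle_eq_same] at this
  · obtain ⟨y, hy⟩ := h.syT.cover SymCyc.exists_pow 0 hx
    obtain ⟨i, -, -, -, h3⟩ := hc.exists_idx h.syT hy
    exact ⟨i, h3.imp (fun h => h.1) fun h => h.2⟩
  · exact hc.cases h.syT hij ((hJ i).trans (hJ j).symm)
  · rw [h.syT.toSy.mem_NN, h.u_eq, h.u_eq, h.u_eq]

end Cfsg.Agent.Omega.NSix.CaseJ.Base
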