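import Cfsg.Agent.Omega.NSix.CaseJ.LemQ
import Cfsg.Agent.Omega.LemmaK.OfIn

/-!
# OMEGA N6, case `J(S) ≰ O₂(P)`: the blocks over `B = bau S`

* `card_idx` : there are `2 ^ (m - 1)` pairs; `card_zj` : `|Z_J| ≥ 2 ^ 2 ^ (m - 1)`;
* `HH S L = C_{Z_J}(L)`, `card_HH` : it is a hyperplane; `exists_two`, `exists_three` : two (three) of them intersect
  nontrivially for `m ≥ 3`;
* `comm_conj` (LEMMA K) : modules of two conjugates of blocks commute if the blocks centralise a common involution;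
* `V_le_iSup` : `V = ⟨N i⟩`.
-/

set_option autoImplicit false
set_option linter.unusedSectionVars false

namespace Cfsg.Agent.Omega.NSix.CaseJ.Blk

open Subgroup Cfsg Cfsg.Agent.PLocal.ThompsonJ Cfsg.Agent.ZN Cfsg.Agent.ZN.ChoiceBase
open Cfsg.Agent.ZN.ChoiceSit Cfsg.Agent.PLocal.ElemAbSup
open Cfsg.Agent.Omega.MinPar
open Cfsg.Agent.Omega.S5.Def Cfsg.Agent.Omega.S5.Syl Cfsg.Agent.Omega.S5.Pair
open Cfsg.Agent.Omega.NSix.Base Cfsg.Agent.Omega.NSix.Basic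
open Cfsg.Agent.Omega.SQ1.Bau (mem_AA_of_comm elem_comm elem_sq mem_sup_comm card_sup_comm)
open Cfsg.Agent.Omega.SQ1 (BauS.In)
open Cfsg.Agent.Omega.NSix.CaseJ.Base Cfsg.Agent.Omega.NSix.CaseJ.Exact
open Cfsg.Agent.Omega.NSix.CaseJ.LemQ

universe u

variable {G : Type u} [Group G] [Finite G] {S : Sylow 2 G} {P : Subgroup G} {m : ℕ}
  {ε : (Fin (2 ^ m + 1) → ZMod 2) → G} {ι : Type} {X Y : ι → Fin (2 ^ m + 1)} {N : ι → Subgroup G}
  {t r : ι → G}

/-- A block over `B` for the triple `0, X i, Y i`. -/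
abbrev Bk (S : Sylow 2 G) (P : Subgroup G) (ε : (Fin (2 ^ m + 1) → ZMod 2) → G) {ι : Type}
    (X Y : ι → Fin (2 ^ m + 1)) (r : ι → G) (i : ι) (L : Subgroup G) : Prop :=
  SQ1.BauS.Blk P (S : Subgroup G) (zl (S : Subgroup G) P) (fun i => rr ε (X i) (Y i)) r i L

/-- the hyperplane `C_{Z_J}(L)` -/
def HH (S : Sylow 2 G) (L : Subgroup G) : Subgroup G :=
  zj (S : Subgroup G) ⊓ centralizer (L : Set G)

theorem mem_HH {L : Subgroup G} {z : G} :
    z ∈ HH S L ↔ z ∈ zj (S : Subgroup G) ∧ ∀ x ∈ L, x * z = z * x := by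
  rw [HH, mem_inf, mem_centralizer_iff]
  rfl

/-! ### Counting -/

theorem card_idx (hm : 1 ≤ m) (hd : Dat S P ε X Y N t r) : Nat.card ι = 2 ^ (m - 1) := by
  classical
  let f : ι × Bool → {x : Fin (2 ^ m + 1) // x ≠ 0} := fun p =>
    if p.2 then ⟨X p.1, hd.X0 p.1⟩ else ⟨Y p.1, hd.Y0 p.1⟩
  have hf : Function.Bijective f := by
    constructor
    · rintro ⟨i, a⟩ ⟨j, b⟩ hab
      have hab' := congrArg Subtype.val hab
      by_cases hij : i = j
      · subst hij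
        cases a <;> cases b <;> simp only [f] at hab' ⊢
        · exact absurd hab'.symm (hd.ne i)
        · exact absurd hab' (hd.ne i)
      · exfalso
        obtain ⟨h1, h2, h3, h4⟩ := hd.disj i j hij
        cases a <;> cases b <;> simp only [f] at hab'
        · exact h4 hab'
        · exact h3 hab'
        · exact h2 hab'
        · exact h1 hab'
    · rintro ⟨x, hx⟩
      obtain ⟨i, h1 | h1⟩ := hd.cov x hx
      · exact ⟨(i, true), Subtype.ext h1⟩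
      · exact ⟨(i, false), Subtype.ext h1⟩
  have h1 := Nat.card_congr (Equiv.ofBijective f hf)
  rw [Nat.card_prod] at h1
  have h2 : Nat.card Bool = 2 := by simp
  have h3 : Nat.card {x : Fin (2 ^ m + 1) // x ≠ 0} = 2 ^ m := by
    rw [Nat.card_eq_fintype_card, Fintype.card_subtype_compl]
    simp
  rw [h2, h3] at h1
  have h4 : 2 ^ m = 2 ^ (m - 1) * 2 := by
    rw [← pow_succ]; congr 1; omega
  omega

/-- the vector which is constant on the pairs -/
noncomputable def fc (X Y : ι → Fin (2 ^ m + 1)) (c : ι → ZMod 2) : Fin (2 ^ m + 1) → ZMod 2 := by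
  classical
  exact fun x => if h : ∃ i, X i = x ∨ Y i = x then c h.choose else 0

theorem fc_eq (hd : Dat S P ε X Y N t r) (c : ι → ZMod 2) {i : ι} {x : Fin (2 ^ m + 1)}
    (hx : X i = x ∨ Y i = x) : fc X Y c x = c i := by
  classical
  have hex : ∃ i, X i = x ∨ Y i = x := ⟨i, hx⟩
  have h1 : fc X Y c x = c hex.choose := dif_pos hex
  rw [h1]
  congr 1
  by_contra hne
  obtain ⟨h2, h3, h4, h5⟩ := hd.disj _ _ hne
  rcases hex.choose_spec with h6 | h6 <;> rcases hx with h7 | h7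
  · exact h2 (h6.trans h7.symm)
  · exact h3 (h6.trans h7.symm)
  · exact h4 (h6.trans h7.symm)
  · exact h5 (h6.trans h7.symm)

theorem fc_zero (hd : Dat S P ε X Y N t r) (c : ι → ZMod 2) : fc X Y c 0 = 0 := by
  classical
  refine dif_neg ?_
  rintro ⟨i, h1 | h1⟩
  · exact hd.X0 i h1
  · exact hd.Y0 i h1

theorem eps_fc_mem (h : Hyp S P ε) (hd : Dat S P ε X Y N t r) (c : ι → ZMod 2) :
    ε (fc X Y c) ∈ zj (S : Subgroup G) := by
  rw [mem_zj_iff h]
  refine ⟨h.ev.mem _, hd.bas.cent_jj (h.ev.mem _) fun i => ?_⟩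
  rw [hd.tA i (fc X Y c)]
  congr 1
  funext x
  rw [Function.comp_apply, Equiv.symm_swap]
  by_cases h1 : x = X i
  · rw [h1, Equiv.swap_apply_left, fc_eq hd c (Or.inr rfl), fc_eq hd c (Or.inl rfl)]
  by_cases h2 : x = Y i
  · rw [h2, Equiv.swap_apply_right, fc_eq hd c (Or.inr rfl), fc_eq hd c (Or.inl rfl)]
  · rw [Equiv.swap_apply_of_ne_of_ne h1 h2]

theorem card_zj (h : Hyp S P ε) (hd : Dat S P ε X Y N t r) :
    2 ^ 2 ^ (m - 1) ≤ Nat.card (zj (S : Subgroup G)) := by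
  classical
  have hm : 1 ≤ m := by have := h.hm; omega
  have h1 := card_idx hm hd
  have hfin : Finite ι := Nat.finite_of_card_ne_zero (by rw [h1]; positivity)
  have h2 : Nat.card (ι → ZMod 2) ≤ Nat.card (zj (S : Subgroup G)) := by
    refine Nat.card_le_card_of_injective (fun c => (⟨ε (fc X Y c), eps_fc_mem h hd c⟩ :
      zj (S : Subgroup G))) ?_
    intro c c' hcc
    have h3 : ε (fc X Y c) = ε (fc X Y c') := congrArg Subtype.val hcc
    have h4 : ε (fc X Y c + fc X Y c') = 1 := by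
      rw [h.ev.add, h3, h.ev.sq_mem (h.ev.mem _)]
    rcases (h.ev.ker _).1 h4 with h5 | h5
    · funext i
      have h6 := congrFun (eq_of_add_eq_zero h5) (X i)
      rwa [fc_eq hd c (Or.inl rfl), fc_eq hd c' (Or.inl rfl)] at h6
    · exfalso
      have h6 := congrFun h5 0
      rw [Pi.add_apply, fc_zero hd, fc_zero hd, add_zero, Pi.one_apply] at h6
      exact zero_ne_one h6
  rw [Nat.card_fun, h1] at h2
  simpa using h2

theorem card_HH (h : Hyp S P ε) (hd : Dat S P ε X Y N t r) {i : ι} {L : Subgroup G}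
    (k : Bk S P ε X Y r i L) : Nat.card (zj (S : Subgroup G)) ≤ 2 * Nat.card (HH S L) := by
  refine card_le_two (c := rr ε (X i) (Y i)) fun y hy hyC => ?_
  rcases LemmaK.OfIn.cent_or k hd.bas hy with h1 | h1
  · exact absurd (mem_HH.2 ⟨hy, h1⟩) hyC
  · rw [rr_inv h.ev]
    exact mem_HH.2 ⟨mul_mem (hd.bas.d_mem_Z i) hy, h1⟩

theorem card_inf {Z A B : Subgroup G} (hZ : ∀ x ∈ Z, ∀ y ∈ Z, x * y = y * x) (hA : A ≤ Z)
    (hB : B ≤ Z) {a b : ℕ} (ha : Nat.card Z ≤ a * Nat.card A) (hb : Nat.card Z ≤ b * Nat.card B) :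
    Nat.card Z ≤ a * b * Nat.card ↥(A ⊓ B) := by
  have h1 := card_sup_comm (A := A) (B := B) fun x hx y hy => hZ x (hA hx) y (hB hy)
  have h2 : Nat.card ↥(A ⊔ B) ≤ Nat.card Z := Subgroup.card_le_of_le (sup_le hA hB)
  have h3 : 0 < Nat.card Z := Nat.card_pos
  have h4 : Nat.card Z * Nat.card Z ≤ a * Nat.card A * (b * Nat.card B) := Nat.mul_le_mul ha hb
  have h5 : a * Nat.card A * (b * Nat.card B) = a * b * (Nat.card A * Nat.card B) := by ring
  have h6 : Nat.card A * Nat.card B ≤ Nat.card Z * Nat.card ↥(A ⊓ B) := by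
    rw [← h1]; exact Nat.mul_le_mul_right _ h2
  have h7 : Nat.card Z * Nat.card Z ≤ Nat.card Z * (a * b * Nat.card ↥(A ⊓ B)) := by
    calc Nat.card Z * Nat.card Z ≤ a * b * (Nat.card A * Nat.card B) := by rw [← h5]; exact h4
      _ ≤ a * b * (Nat.card Z * Nat.card ↥(A ⊓ B)) := Nat.mul_le_mul_left _ h6
      _ = _ := by ring
  exact Nat.le_of_mul_le_mul_left h7 h3

theorem exists_ne_of_card {A : Subgroup G} {a : ℕ} (h1 : a < a * Nat.card A) : ∃ y ∈ A, y ≠ 1 := by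
  by_contra hcon
  push Not at hcon
  have h2 : A = ⊥ := by
    rw [eq_bot_iff]
    intro y hy
    exact hcon y hy
  rw [h2, Subgroup.card_bot] at h1
  omega

theorem zj_comm {x y : G} (hx : x ∈ zj (S : Subgroup G)) (hy : y ∈ zj (S : Subgroup G)) :
    x * y = y * x :=
  ((ChoiceBase.mem_zj.1 hx).2.2 y (ChoiceBase.mem_zj.1 hy).1).symm

theorem sixteen (h : Hyp S P ε) (hd : Dat S P ε X Y N t r) (h3 : 3 ≤ m) :
    16 ≤ Nat.card (zj (S : Subgroup G)) := by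
  refine le_trans ?_ (card_zj h hd)
  have h1 : 2 ^ 2 ≤ 2 ^ (m - 1) := Nat.pow_le_pow_right (by norm_num) (by omega)
  calc 16 = 2 ^ 2 ^ 2 := by norm_num
    _ ≤ 2 ^ 2 ^ (m - 1) := Nat.pow_le_pow_right (by norm_num) h1

/-- A conjugate of a hyperplane. -/
theorem card_cj_HH {L : Subgroup G} (hL : Nat.card (zj (S : Subgroup G)) ≤ 2 * Nat.card (HH S L))
    (g : G) : Nat.card (zj (S : Subgroup G)) ≤ 2 * Nat.card (cj g (HH S L)) := by
  rwa [card_cj]

/-- Two hyperplanes intersect. -/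
theorem exists_two (h : Hyp S P ε) (hd : Dat S P ε X Y N t r) (h3 : 3 ≤ m) {A B : Subgroup G}
    (hA : A ≤ zj (S : Subgroup G)) (hB : B ≤ zj (S : Subgroup G))
    (ha : Nat.card (zj (S : Subgroup G)) ≤ 2 * Nat.card A)
    (hb : Nat.card (zj (S : Subgroup G)) ≤ 2 * Nat.card B) : ∃ y ∈ A ⊓ B, y ≠ 1 := by
  have h1 := card_inf (fun x hx y hy => zj_comm hx hy) hA hB ha hb
  have h2 := sixteen h hd h3
  exact exists_ne_of_card (a := 2 * 2) (by omega)

/-- Three hyperplanes intersect. -/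
theorem exists_three (h : Hyp S P ε) (hd : Dat S P ε X Y N t r) (h3 : 3 ≤ m) {A B C : Subgroup G}
    (hA : A ≤ zj (S : Subgroup G)) (hB : B ≤ zj (S : Subgroup G)) (hC : C ≤ zj (S : Subgroup G))
    (ha : Nat.card (zj (S : Subgroup G)) ≤ 2 * Nat.card A)
    (hb : Nat.card (zj (S : Subgroup G)) ≤ 2 * Nat.card B)
    (hc : Nat.card (zj (S : Subgroup G)) ≤ 2 * Nat.card C) : ∃ y ∈ (A ⊓ B) ⊓ C, y ≠ 1 := by
  have h1 := card_inf (fun x hx y hy => zj_comm hx hy) hA hB ha hb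
  have h1' := card_inf (fun x hx y hy => zj_comm hx hy) (inf_le_left.trans hA) hC h1 hc
  have h2 := sixteen h hd h3
  exact exists_ne_of_card (a := 2 * 2 * 2) (by omega)

/-! ### LEMMA K -/

theorem cj_bau (S : Sylow 2 G) (x : G) :
    bau ((x • S : Sylow 2 G) : Subgroup G) = cj x (bau (S : Subgroup G)) := by
  rw [Sylow.coe_subgroup_smul]
  exact bau_cj x (S : Subgroup G)

/-- **LEMMA K** for conjugates of the blocks. -/
theorem comm_conj (h : Hyp S P ε) (hd : Dat S P ε X Y N t r) {i j : ι} {L L' : Subgroup G}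
    (k : Bk S P ε X Y r i L) (k' : Bk S P ε X Y r j L') {x y w : G} (hw1 : w ≠ 1) (hw2 : w * w = 1)
    (hx : ∀ l ∈ L, (x * l * x⁻¹) * w = w * (x * l * x⁻¹))
    (hy : ∀ l ∈ L', (y * l * y⁻¹) * w = w * (y * l * y⁻¹)) {a b : G} (ha : a ∈ N i) (hb : b ∈ N j) :
    (x * a * x⁻¹) * (y * b * y⁻¹) = (y * b * y⁻¹) * (x * a * x⁻¹) := by
  have b1 := (LemmaK.OfIn.blk k hd.bas).map x
  have b2 := (LemmaK.OfIn.blk k' hd.bas).map y
  rw [← cj_bau] at b1 b2
  refine LemmaK.Main.commute_of_local h.hG _ _ b1 b2 (U := zpowers w) ?_ ?_ ?_ ?_ _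
    ⟨a, ha, rfl⟩ _ ⟨b, hb, rfl⟩
  · exact isPGroup_of_isElementaryAbelian (zp_elem hw2)
  · rwa [Ne, zpowers_eq_bot]
  · rintro _ ⟨l, hl, rfl⟩
    refine mem_normalizer_of_cj_le ?_
    rintro _ ⟨v, hv, rfl⟩
    have h1 := hx l hl
    change (x * l * x⁻¹) * v * (x * l * x⁻¹)⁻¹ ∈ _
    rcases mem_zp hw2 hv with rfl | rfl
    · have e : (x * l * x⁻¹) * 1 * (x * l * x⁻¹)⁻¹ = 1 := by group
      rw [e]; exact one_mem _
    · rw [h1, mul_inv_cancel_right]; exact mem_zpowers _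
  · rintro _ ⟨l, hl, rfl⟩
    refine mem_normalizer_of_cj_le ?_
    rintro _ ⟨v, hv, rfl⟩
    have h1 := hy l hl
    change (y * l * y⁻¹) * v * (y * l * y⁻¹)⁻¹ ∈ _
    rcases mem_zp hw2 hv with rfl | rfl
    · have e : (y * l * y⁻¹) * 1 * (y * l * y⁻¹)⁻¹ = 1 := by group
      rw [e]; exact one_mem _
    · rw [h1, mul_inv_cancel_right]; exact mem_zpowers _

/-! ### `V = ⟨N i⟩` -/

theorem V_le_iSup (h : Hyp S P ε) (hd : Dat S P ε X Y N t r) : zl (S : Subgroup G) P ≤ ⨆ i, N i := by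
  refine V_le_of_rr h.ev (by have := h.hm; omega) fun x => ?_
  by_cases hx : x = 0
  · have h1 : rr ε (0 : Fin (2 ^ m + 1)) 0 = 1 := h.ev.sq_mem (h.ev.mem _)
    rw [hx, h1]
    exact one_mem _
  · obtain ⟨i, h1 | h1⟩ := hd.cov x hx
    · refine mem_iSup_of_mem i ((hd.memN i _).2 (Or.inr (Or.inl ?_)))
      rw [h1, rr_symm h.ev]
    · refine mem_iSup_of_mem i ((hd.memN i _).2 (Or.inr (Or.inr (Or.inl ?_))))
      rw [h1, rr_symm h.ev]

/-- Two sets of conjugates commute if the generators do. -/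
theorem comm_all (h : Hyp S P ε) (hd : Dat S P ε X Y N t r) {x y : G}
    (hc : ∀ i j, ∀ a ∈ N i, ∀ b ∈ N j, (x * a * x⁻¹) * (y * b * y⁻¹) = (y * b * y⁻¹) * (x * a * x⁻¹))
    {a b : G} (ha : a ∈ zl (S : Subgroup G) P) (hb : b ∈ zl (S : Subgroup G) P) :
    (x * a * x⁻¹) * (y * b * y⁻¹) = (y * b * y⁻¹) * (x * a * x⁻¹) := by
  have key : ∀ (x y : G) (U : Subgroup G), (∀ i, ∀ a ∈ N i, ∀ b ∈ U,
      (x * a * x⁻¹) * (y * b * y⁻¹) = (y * b * y⁻¹) * (x * a * x⁻¹)) →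
      ∀ a ∈ zl (S : Subgroup G) P, ∀ b ∈ U,
        (x * a * x⁻¹) * (y * b * y⁻¹) = (y * b * y⁻¹) * (x * a * x⁻¹) := by
    intro x y U hU a ha b hb
    have h1 : (⨆ i, N i) ≤ cj x⁻¹ (centralizer ({y * b * y⁻¹} : Set G)) := by
      refine iSup_le fun i a ha => ?_
      rw [mem_cj, inv_inv, mem_centralizer_singleton_iff]
      exact hU i a ha b hb
    have h2 := h1 (V_le_iSup h hd ha)
    rw [mem_cj, inv_inv, mem_centralizer_singleton_iff] at h2
    exact h2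
  refine key x y _ (fun i a ha b hb => ?_) a ha b hb
  exact (key y x (N i) (fun j b hb a ha => (hc i j a ha b hb).symm) b hb a ha).symm

/-! ### Sizes of the pieces -/

theorem QB (h : Hyp S P ε) : o2 P ≤ bau (S : Subgroup G) := by
  intro q hq
  have h1 : q ∈ (S : Subgroup G) := h.QS hq
  have h2 : ∀ z ∈ zj (S : Subgroup G), z * q = q * z := fun z hz =>
    (h.VcQ hq (LemQ.zj_le h hz)).symm
  exact ChoiceBase.mem_bau.2 ⟨h1, h2⟩

theorem VB (h : Hyp S P ε) : zl (S : Subgroup G) P ≤ bau (S : Subgroup G) := h.VQ.trans (QB h)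

theorem VJ (h : Hyp S P ε) : zl (S : Subgroup G) P ≤ jj (S : Subgroup G) := by
  obtain ⟨ι, X, Y, N, t, r, -, hd⟩ := h.exists_dat
  obtain ⟨A, hA, -, hVA⟩ := hd.bas.exists_AQ
  exact hVA.trans (le_jj hA)

/-- `B` acts on `N i` like `⟨t i⟩`. -/
theorem bau_N (hd : Dat S P ε X Y N t r) {b : G} (hb : b ∈ bau (S : Subgroup G))
    {i : ι} {v : G} (hv : v ∈ N i) : b * v * b⁻¹ = v ∨ b * v * b⁻¹ = rr ε (X i) (Y i) * v := by
  rcases (hd.bas.EE_good (hd.bas.bau_EE hb)).actN i with h1 | h1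
  · exact Or.inl (h1 v hv)
  · rw [h1 v hv]
    exact hd.bas.t_comm i v (hd.bas.NV i hv)

theorem d_mem_HH (hd : Dat S P ε X Y N t r) {i j : ι} {L : Subgroup G}
    (k : Bk S P ε X Y r i L) (hij : i ≠ j) : rr ε (X j) (Y j) ∈ HH S L :=
  mem_HH.2 ⟨hd.bas.d_mem_Z j, LemmaK.OfIn.cent_d k hd.bas hij⟩

end Cfsg.Agent.Omega.NSix.CaseJ.Blk
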