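import Cfsg.Agent.Omega.NSix.CaseJ.PBig

/-!
# OMEGA N6, case `J(S) ≰ O₂(P)`: (8) of #16037 / (f8) of #16600

* `exists_pb` : a minimal parabolic `H` over `T ≥ bau S` with `J(T) ≰ O₂(H)`, `[Ω₁Z(T), H] ≠ 1` is generated by `T`
  and an FF-block over `bau S`;
* `cent` : a minimal parabolic of `C_G(r_ij)` over `C_S(r_ij)` which is not in `N_G(V)` centralises `C_V(C_S(r_ij))`.
-/

set_option autoImplicit false
set_option linter.unusedSectionVars false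

namespace Cfsg.Agent.Omega.NSix.CaseJ.Eight

open Subgroup Cfsg Cfsg.Agent.ZN.ChoiceBase Cfsg.Agent.ZN.ChoiceSit
open Cfsg.Agent.ZN (jj zj bau zc zl o2)
open Cfsg.Agent.MinSimple.MinParabolic (IsMinPar)
open Cfsg.Agent.Omega.LemmaK (Block WeakNormal)
open Cfsg.Agent.Omega.LemmaK.Main (le_normalizer_bau)
open Cfsg.Agent.Omega.FFThm (Off NoOver Concl NatK SymK)
open Cfsg.Agent.Omega.OM (PB FBK.pb FBS.pb syT_of)
open Cfsg.Agent.Omega.OM.BlkGen (exists_off)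
open Cfsg.Agent.Omega.S5.Def
open Cfsg.Agent.Omega.NSix.Base Cfsg.Agent.Omega.NSix.Basic
open Cfsg.Agent.Omega.NSix.CaseJ.Base
open scoped Pointwise

universe u

variable {G : Type u} [Group G] [Finite G]

/-- **Minimal parabolics which move `Ω₁(Z(T))` are generated by `T` and an FF-block over `B`.** -/
theorem exists_pb {T H : Subgroup G} (hFF : FFThm.Stmt.{u}) (S : Sylow 2 G) (hT : Syl T H)
    (hB : bau (S : Subgroup G) ≤ T) (hP : IsMinPar T H) (hc : H ⊓ centralizer (o2 H : Set G) ≤ o2 H)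
    (hJ : ¬ jj T ≤ o2 H) (hZ : ¬ H ≤ centralizer (zc T : Set G)) :
    ∃ (L N N1 N0 : Subgroup G) (q : ℕ), PB (bau (S : Subgroup G)) L N N1 N0 q ∧ L ≤ H ∧
      ∀ K : Subgroup G, T ≤ K → L ≤ K → H ≤ K := by
  have hbau : bau T = bau (S : Subgroup G) := LemmaK.Main.bau_eq S hT.2.1 hB
  have hw : WeakNormal 2 (bau T) := by
    rw [hbau]
    exact fun R hR hBR => le_normalizer_bau S hR hBR
  obtain ⟨A, hA, hoff⟩ := exists_off hT hP hc hJ hZ
  obtain ⟨hno, hcon⟩ := hFF G T H hT hP hc ⟨A, hA.2.1.trans hT.1, hoff⟩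
  have hm := SQ1.FFOne.minH_of hT hP hc
  rcases hcon with ⟨F, _, _, _, k, hk, ⟨M⟩⟩ | ⟨k, m, hk, hm2, ⟨M⟩⟩
  · have : Nonempty (Fin k) := ⟨⟨0, hk⟩⟩
    set N := (SQ1.FFOne.natKB_of hT hc hJ hk M).toFFK hm with hN
    obtain ⟨E, hE⟩ := N.toInK hm
    obtain ⟨L, hL⟩ := hE.exists_blk ⟨0, hk⟩
    have hpb := FBK.pb hm N hE hw hL
    rw [hbau] at hpb
    exact ⟨L, _, _, _, _, hpb, hL.LH hE, fun K hTK hLK => hL.sup_T hE hTK hLK⟩
  · have h := syT_of hm hJ M hk (by omega) SQ1.FFOf.cv_le SQ1.FFOf.cv_norm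
    obtain ⟨ι, J, X, Y, t, r, c⟩ := h.exists_ch
    have hin := c.main h Cfsg.Agent.Omega.SQ1.SymCyc.exists_pow
    obtain ⟨j, x, y, hTr⟩ := h.exists_tr
    obtain ⟨i, -⟩ := c.ex j x y hTr
    obtain ⟨L, hL⟩ := hin.exists_blk i
    have hpb := FBS.pb hin hw hL
    rw [hbau] at hpb
    exact ⟨L, _, _, _, _, hpb, hL.LH hin, fun K hTK hLK => hL.sup_T hin hTK hLK⟩

variable {S : Sylow 2 G} {P : Subgroup G} {m : ℕ} {ε : (Fin (2 ^ m + 1) → ZMod 2) → G}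

/-- **(8)** A minimal parabolic of `C_G(r_ij)` over `C_S(r_ij)` outside `N_G(V)` centralises `C_V(C_S(r_ij))`. -/
theorem cent (hFF : FFThm.Stmt.{u}) (h : Hyp S P ε) (h3 : 3 ≤ m) :
    ∀ i j, i ≠ j → (∃ b ∈ (S : Subgroup G), Acts ε b (Equiv.swap i j)) →
      ∀ P₁ : Subgroup G, IsMinPar ((S : Subgroup G) ⊓ centralizer ({rr ε i j} : Set G)) P₁ →
        P₁ ≤ centralizer ({rr ε i j} : Set G) → ¬ P₁ ≤ normalizer (zl (S : Subgroup G) P : Set G) →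
          P₁ ≤ centralizer ((zl (S : Subgroup G) P ⊓ centralizer (((S : Subgroup G) ⊓
            centralizer ({rr ε i j} : Set G) : Subgroup G) : Set G) : Subgroup G) : Set G) := by
  intro i j hij hb P₁ hP₁ hP₁C hnot
  set C := centralizer ({rr ε i j} : Set G) with hC
  set T := (S : Subgroup G) ⊓ C with hT
  have hsC := Fus.syl h h3 hij hb
  rw [← hC, ← hT] at hsC
  have hs : Syl T P₁ := ⟨hP₁.le, hsC.2.1, fun R hR hR2 hTR => hsC.2.2 R (hR.trans hP₁C) hR2 hTR⟩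
  have hB : bau (S : Subgroup G) ≤ T := Fus.bau_le_cent (Fus.rr_zj h hij hb)
  have hr1 := rr_ne_one h.ev h.three hij
  have hr2 : rr ε i j ^ 2 = 1 := by rw [pow_two]; exact rr_sq h.ev i j
  have hcC : C ⊓ centralizer (o2 C : Set G) ≤ o2 C := MinSimple.Basic.char2_centralizer h.hG hr2 hr1
  have hc1 : P₁ ⊓ centralizer (o2 P₁ : Set G) ≤ o2 P₁ := by
    have h4 : o2 C ≤ o2 P₁ := ZN.le_o2 ((o2_le_syl hsC).trans hP₁.le) (isPGroup_o2 C)
      (hP₁C.trans (le_normalizer_o2 C))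
    rintro x ⟨hx, hxc⟩
    exact h4 (hcC ⟨hP₁C hx, centralizer_le (by exact_mod_cast h4) hxc⟩)
  have hjj : jj T = jj (S : Subgroup G) := LemmaK.Main.jj_eq S hsC.2.1 hB
  by_cases hZ : P₁ ≤ centralizer (zc T : Set G)
  · refine hZ.trans (centralizer_le ?_)
    intro v hv
    have hv' : v ∈ zl (S : Subgroup G) P ∧ v ∈ centralizer (T : Set G) := hv
    have hvc := mem_centralizer_iff.1 hv'.2
    rw [SetLike.mem_coe, Cfsg.Agent.ZN.ChoiceBase.mem_zc]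
    refine ⟨hB (Blk.VB h hv'.1), ?_, fun y hy => hvc y hy⟩
    rw [pow_two]
    exact h.ev.sq_mem hv'.1
  exfalso
  apply hnot
  by_cases hJ : jj T ≤ o2 P₁
  · rw [hjj] at hJ
    have h1 := Fus.jj_eq_of_le S (isPGroup_o2 P₁) hJ
    have h2 : P₁ ≤ normalizer ((jj (o2 P₁) : Subgroup G) : Set G) :=
      (le_normalizer_o2 P₁).trans (normalizer_le_of_cj (F := jj) jj_cj (o2 P₁))
    rw [h1] at h2
    exact h2.trans (Norm.jj_le h h3)
  · obtain ⟨L, N, N1, N0, q, hpb, hLP, hgen⟩ := exists_pb hFF S hs hB hP₁ hc1 hJ hZ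
    refine hgen _ (inf_le_left.trans (Fus.S_le h)) ?_
    obtain ⟨ι, X, Y, N', t, r, -, hd⟩ := h.exists_dat
    have hLc : ∀ l ∈ L, l * rr ε i j = rr ε i j * l := fun l hl =>
      mem_centralizer_singleton_iff.1 (hP₁C (hLP hl))
    obtain ⟨p, h1 | h1⟩ := Fus.exists_pair h hd hij hb
    · rw [h1.1, h1.2] at hLc
      exact PBlock.L_le h h3 hd hpb hLc
    · rw [h1.1, h1.2, rr_symm h.ev] at hLc
      exact PBlock.L_le h h3 hd hpb hLc

end Cfsg.Agent.Omega.NSix.CaseJ.Eight
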