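import Cfsg.Agent.Omega.NSix.CaseJ.Norm
import Cfsg.Agent.Omega.NSix.CosetAct
import Cfsg.Agent.Omega.NSix.Norm

/-!
# OMEGA N6, case `J(S) ≰ O₂(P)`: 2-subgroups over `B`, `J(S)`, Sylow subgroups of `C_G(r_ij)`, fusion in `V`

* `two_le_bau`, `two_le_jj` : a 2-subgroup over `bau S` or `jj S` lies in `N_G(V)`;
* `mem_of_bau`, `mem_of_jj` : `B^x ≤ N_G(V)` (or `J^x ≤ N_G(V)`) implies `x ∈ N_G(V)`;
* `syl` **(6)**; `control` **(7)**.
-/

set_option autoImplicit false
set_option linter.unusedSectionVars false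

namespace Cfsg.Agent.Omega.NSix.CaseJ.Fus

open Subgroup Cfsg Cfsg.Agent.PLocal.ThompsonJ Cfsg.Agent.ZN Cfsg.Agent.ZN.ChoiceBase
open Cfsg.Agent.ZN.ChoiceSit Cfsg.Agent.PLocal.ElemAbSup
open Cfsg.Agent.Omega.MinPar
open Cfsg.Agent.Omega.S5.Def Cfsg.Agent.Omega.S5.Syl Cfsg.Agent.Omega.S5.Pair
open Cfsg.Agent.Omega.NSix.Base Cfsg.Agent.Omega.NSix.Basic
open Cfsg.Agent.Omega.SQ1.Bau (mem_AA_of_comm elem_comm elem_sq mem_sup_comm card_sup_comm)
open Cfsg.Agent.Omega.NSix.CaseJ.Base Cfsg.Agent.Omega.NSix.CaseJ.Exact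
open Cfsg.Agent.Omega.NSix.CaseJ.LemQ Cfsg.Agent.Omega.NSix.CaseJ.Blk Cfsg.Agent.Omega.NSix.CaseJ.Norm

universe u

variable {G : Type u} [Group G] [Finite G] {S : Sylow 2 G} {P : Subgroup G} {m : ℕ}
  {ε : (Fin (2 ^ m + 1) → ZMod 2) → G} {ι : Type} {X Y : ι → Fin (2 ^ m + 1)} {N : ι → Subgroup G}
  {t r : ι → G}

/-! ### 2-subgroups over `B` or `J(S)` -/

theorem two_le_bau (h : Hyp S P ε) (h3 : 3 ≤ m) {T : Subgroup G} (hT : IsPGroup 2 T)
    (hB : bau (S : Subgroup G) ≤ T) : T ≤ normalizer (zl (S : Subgroup G) P : Set G) :=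
  (LemmaK.Main.le_normalizer_bau S hT hB).trans (bau_le h h3)

theorem jj_eq_of_le (S : Sylow 2 G) {T : Subgroup G} (hT : IsPGroup 2 T)
    (hJ : jj (S : Subgroup G) ≤ T) : jj T = jj (S : Subgroup G) := by
  obtain ⟨S', hS'⟩ := hT.exists_le_sylow
  obtain ⟨g, hg⟩ := MulAction.exists_smul_eq G S S'
  have hg2 : (S' : Subgroup G) = cj g (S : Subgroup G) := by
    rw [← hg, Sylow.coe_subgroup_smul]
    rfl
  have hmm : mm (S' : Subgroup G) = mm (S : Subgroup G) := by rw [hg2, mm_cj]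
  obtain ⟨A₀, hA₀⟩ := AA_nonempty (S : Subgroup G)
  have h1 : mm (S' : Subgroup G) ≤ mm T := by
    rw [hmm, mm_eq hA₀]
    exact card_le_mm hA₀.1 ((ChoiceBase.le_jj hA₀).trans hJ)
  have h2 : jj (S : Subgroup G) ≤ jj T := by
    conv_lhs => rw [ChoiceBase.jj_eq]
    refine sSup_le fun A hA => ChoiceBase.le_jj ?_
    refine ⟨hA.1, (ChoiceBase.le_jj hA).trans hJ, fun B hB _ => ?_⟩
    exact (card_le_mm' S hB).trans (mm_eq hA).le
  have h4 := jj_mono hS' h1
  refine (Subgroup.eq_of_le_of_card_ge h2 ?_).symm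
  refine (Subgroup.card_le_of_le h4).trans ?_
  rw [hg2, jj_cj, card_cj]

theorem two_le_jj (h : Hyp S P ε) (h3 : 3 ≤ m) {T : Subgroup G} (hT : IsPGroup 2 T)
    (hJ : jj (S : Subgroup G) ≤ T) : T ≤ normalizer (zl (S : Subgroup G) P : Set G) := by
  refine le_trans ?_ (Norm.jj_le h h3)
  rw [← jj_eq_of_le S hT hJ]
  exact Subgroup.le_normalizer.trans (normalizer_le_of_cj (F := jj) jj_cj T)

theorem S_le (h : Hyp S P ε) : (S : Subgroup G) ≤ normalizer (zl (S : Subgroup G) P : Set G) :=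
  h.SP.trans h.ev.le_normalizer

theorem syl_S (h : Hyp S P ε) :
    ChoiceSit.Syl (S : Subgroup G) (normalizer (zl (S : Subgroup G) P : Set G)) :=
  ⟨S_le h, S.isPGroup', fun _ _ hT hST => S.is_maximal' hT hST⟩

/-- A 2-subgroup of `N_G(V)` is conjugate there into `S`. -/
theorem conj_S (h : Hyp S P ε) {R : Subgroup G} (hR : IsPGroup 2 R)
    (hRM : R ≤ normalizer (zl (S : Subgroup G) P : Set G)) :
    ∃ k ∈ normalizer (zl (S : Subgroup G) P : Set G), cj k R ≤ (S : Subgroup G) := by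
  obtain ⟨R', hR', hRR'⟩ := ChoiceSit.exists_syl hR hRM
  obtain ⟨k, hk, hkR⟩ := ChoiceSit.syl_conj hR' (syl_S h)
  exact ⟨k, hk, hkR ▸ cj_mono k hRR'⟩

theorem mem_of_bau (h : Hyp S P ε) (h3 : 3 ≤ m) {x : G}
    (hx : cj x (bau (S : Subgroup G)) ≤ normalizer (zl (S : Subgroup G) P : Set G)) :
    x ∈ normalizer (zl (S : Subgroup G) P : Set G) := by
  have hB2 : IsPGroup 2 (bau (S : Subgroup G)) := S.isPGroup'.to_le (ChoiceBase.bau_le _)
  obtain ⟨k, hk, hkR⟩ := conj_S h (isPGroup_cj x hB2) hx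
  rw [cj_cj] at hkR
  have h1 : bau (S : Subgroup G) ≤ cj (k * x)⁻¹ (S : Subgroup G) := cj_le_iff.1 hkR
  have h2 := LemmaK.Main.bau_eq S (isPGroup_cj _ S.isPGroup') h1
  rw [bau_cj] at h2
  have h4 := bau_le h h3 (mem_normalizer_iff_cj.2 h2)
  have h5 := mul_mem (inv_mem hk) (inv_mem h4)
  rwa [inv_inv, inv_mul_cancel_left] at h5

theorem mem_of_jj (h : Hyp S P ε) (h3 : 3 ≤ m) {x : G}
    (hx : cj x (jj (S : Subgroup G)) ≤ normalizer (zl (S : Subgroup G) P : Set G)) :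
    x ∈ normalizer (zl (S : Subgroup G) P : Set G) := by
  have hB2 : IsPGroup 2 (jj (S : Subgroup G)) := S.isPGroup'.to_le (ChoiceBase.jj_le _)
  obtain ⟨k, hk, hkR⟩ := conj_S h (isPGroup_cj x hB2) hx
  rw [cj_cj] at hkR
  have h1 : jj (S : Subgroup G) ≤ cj (k * x)⁻¹ (S : Subgroup G) := cj_le_iff.1 hkR
  have h2 := jj_eq_of_le S (isPGroup_cj _ S.isPGroup') h1
  rw [jj_cj] at h2
  have h4 := Norm.jj_le h h3 (mem_normalizer_iff_cj.2 h2)
  have h5 := mul_mem (inv_mem hk) (inv_mem h4)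
  rwa [inv_inv, inv_mul_cancel_left] at h5

/-! ### Transpositions in `S` -/

/-- the setting of `CosetAct` with `W = 1` -/
theorem cosetHyp (h : Hyp S P ε) {i j : Fin (2 ^ m + 1)} (hij : i ≠ j)
    (hb : ∃ b ∈ (S : Subgroup G), Acts ε b (Equiv.swap i j)) :
    CosetAct.Hyp (zl (S : Subgroup G) P) P (S : Subgroup G) ⊥ ε i j where
  even := h.ev
  VP := h.VQ.trans h.QP
  two_le := h.hm
  le := h.SP
  isP := S.isPGroup'
  max T hT := by
    obtain ⟨T', hT'⟩ := hT.exists_le_sylow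
    calc Nat.card T ≤ Nat.card (T' : Subgroup G) := Subgroup.card_le_of_le hT'
      _ = Nat.card (S : Subgroup G) := Nat.card_congr (Sylow.equiv T' S).toEquiv
  fix0 := h.fix0
  ne := hij
  swap := hb
  isPW := IsPGroup.of_bot
  leW := bot_le
  norm g _ := by
    rw [mem_normalizer_iff_cj]
    exact Subgroup.map_bot _

/-- The transpositions induced by `S` are the pairs of the matching. -/
theorem exists_pair (h : Hyp S P ε) (hd : Dat S P ε X Y N t r) {i j : Fin (2 ^ m + 1)} (hij : i ≠ j)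
    (hb : ∃ b ∈ (S : Subgroup G), Acts ε b (Equiv.swap i j)) :
    ∃ p, (i = X p ∧ j = Y p) ∨ (i = Y p ∧ j = X p) := by
  have hc := cosetHyp h hij hb
  obtain ⟨p, h1⟩ := hd.cov i hc.i_ne_zero
  refine ⟨p, ?_⟩
  have ht : t p ∈ (S : Subgroup G) := hd.bas.tT p
  obtain ⟨b, hbS, hbA⟩ := hb
  rcases h1 with h1 | h1
  · left
    refine ⟨h1.symm, ?_⟩
    by_contra hne
    have hc' := cosetHyp h (hd.ne p).symm ⟨t p, ht, by rw [Equiv.swap_comm]; exact hd.tA p⟩
    have h2 := hc'.fix_j hbS hbA (Equiv.swap_apply_of_ne_of_ne (by rw [← h1]; exact (hd.ne p).symm)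
      (Ne.symm hne))
    rw [h1, Equiv.swap_apply_left] at h2
    exact hij h2.symm
  · right
    refine ⟨h1.symm, ?_⟩
    by_contra hne
    have hc' := cosetHyp h (hd.ne p) ⟨t p, ht, hd.tA p⟩
    have h2 := hc'.fix_j hbS hbA (Equiv.swap_apply_of_ne_of_ne (by rw [← h1]; exact hd.ne p)
      (Ne.symm hne))
    rw [h1, Equiv.swap_apply_left] at h2
    exact hij h2.symm

theorem rr_zj (h : Hyp S P ε) {i j : Fin (2 ^ m + 1)} (hij : i ≠ j)
    (hb : ∃ b ∈ (S : Subgroup G), Acts ε b (Equiv.swap i j)) : rr ε i j ∈ zj (S : Subgroup G) := by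
  obtain ⟨ι, X, Y, N, t, r, -, hd⟩ := h.exists_dat
  obtain ⟨p, h1 | h1⟩ := exists_pair h hd hij hb
  · rw [h1.1, h1.2]; exact hd.bas.d_mem_Z p
  · rw [h1.1, h1.2, rr_symm h.ev]; exact hd.bas.d_mem_Z p

theorem bau_le_cent {z : G} (hz : z ∈ zj (S : Subgroup G)) :
    bau (S : Subgroup G) ≤ (S : Subgroup G) ⊓ centralizer ({z} : Set G) := fun b hb =>
  ⟨ChoiceBase.bau_le _ hb, mem_centralizer_singleton_iff.2 ((ChoiceBase.mem_bau.1 hb).2 z hz).symm⟩

/-! ### The order of `C_S(r_ab)` -/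

/-- `|C_S(z_a)| 2^m ≤ |S|` for `a ≠ 0`. -/
theorem card_fix (h : Hyp S P ε) {a : Fin (2 ^ m + 1)} (ha : a ≠ 0) :
    Nat.card ↥((S : Subgroup G) ⊓ centralizer ({zz ε a} : Set G)) * 2 ^ m ≤
      Nat.card (S : Subgroup G) := by
  classical
  have hS2 : ¬ 2 ∣ (S : Subgroup G).relIndex P := MinSimple.Basic.not_dvd_relIndex S h.SP
  have htr := fun (c : {c : Fin (2 ^ m + 1) // c ≠ 0}) =>
    S5.Syl.trans (by have := h.hm; omega) h.ev h.SP hS2 h.fix0 ha c.2
  choose s hs σ hσ hσa using htr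
  have h1 : Nat.card (↥((S : Subgroup G) ⊓ centralizer ({zz ε a} : Set G)) ×
      {c : Fin (2 ^ m + 1) // c ≠ 0}) ≤ Nat.card (S : Subgroup G) := by
    refine Nat.card_le_card_of_injective (fun p => (⟨s p.2 * (p.1 : G),
      mul_mem (hs p.2) p.1.2.1⟩ : (S : Subgroup G))) ?_
    rintro ⟨y, c⟩ ⟨y', c'⟩ hyy
    have h2 : s c * (y : G) = s c' * (y' : G) := congrArg Subtype.val hyy
    have h3 : ∀ (c : {c : Fin (2 ^ m + 1) // c ≠ 0})
        (y : ↥((S : Subgroup G) ⊓ centralizer ({zz ε a} : Set G))),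
        (s c * (y : G)) * zz ε a * (s c * (y : G))⁻¹ = zz ε c := by
      intro c y
      have h4 := mem_centralizer_singleton_iff.1 y.2.2
      calc (s c * (y : G)) * zz ε a * (s c * (y : G))⁻¹
          = s c * ((y : G) * zz ε a) * (y : G)⁻¹ * (s c)⁻¹ := by group
        _ = s c * zz ε a * (s c)⁻¹ := by rw [h4]; group
        _ = zz ε c := by rw [zz_conj (hσ c), hσa]
    have h5 : zz ε (c : Fin (2 ^ m + 1)) = zz ε c' := by rw [← h3 c y, ← h3 c' y', h2]
    have h6 : c = c' := Subtype.ext (h.ev.single_inj h.three h5)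
    subst h6
    exact Prod.ext (Subtype.ext (mul_left_cancel h2)) rfl
  rw [Nat.card_prod] at h1
  have h3 : Nat.card {x : Fin (2 ^ m + 1) // x ≠ 0} = 2 ^ m := by
    rw [Nat.card_eq_fintype_card, Fintype.card_subtype_compl]
    simp
  rwa [h3] at h1

/-- different pairs have different vectors (five points) -/
theorem rr_ne {n : ℕ} {V L : Subgroup G} {ε : (Fin n → ZMod 2) → G} (h : EvenSet n V L ε) (hn : 5 ≤ n)
    {i j k l : Fin n} (hij : i ≠ j) (hki : k ≠ i) (hli : l ≠ i) : rr ε i j ≠ rr ε k l := by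
  intro h0
  have hrr : ∀ i j : Fin n, rr ε i j = ε (Pi.single i 1 + Pi.single j 1) := fun i j => (h.add _ _).symm
  rw [hrr, hrr, h.eq_iff] at h0
  obtain ⟨q, hq⟩ : ∃ q : Fin n, q ∉ ({i, j, k, l} : Finset (Fin n)) := by
    by_contra hc
    push Not at hc
    have h1 : (Finset.univ : Finset (Fin n)).card ≤ ({i, j, k, l} : Finset (Fin n)).card :=
      Finset.card_le_card fun x _ => hc x
    have h2 : ({i, j, k, l} : Finset (Fin n)).card ≤ 4 := Finset.card_le_four
    rw [Finset.card_univ, Fintype.card_fin] at h1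
    omega
  simp only [Finset.mem_insert, Finset.mem_singleton, not_or] at hq
  obtain ⟨q1, q2, q3, q4⟩ := hq
  rcases h0 with h0 | h0
  · have h1 := congrFun h0 i
    rw [Pi.add_apply, Pi.add_apply, Pi.single_eq_same, Pi.single_eq_of_ne hij, Pi.single_eq_of_ne hki.symm,
      Pi.single_eq_of_ne hli.symm, add_zero, add_zero] at h1
    exact one_ne_zero h1
  · have h1 := congrFun h0 q
    rw [Pi.add_apply, Pi.add_apply, Pi.add_apply, Pi.single_eq_of_ne q1, Pi.single_eq_of_ne q2,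
      Pi.single_eq_of_ne q3, Pi.single_eq_of_ne q4, Pi.one_apply, add_zero, zero_add] at h1
    exact zero_ne_one h1

/-- An element acting on `V` and centralising `r_ab` preserves the pair. -/
theorem pair_of_cent (h : Hyp S P ε) {a b : Fin (2 ^ m + 1)} (hab : a ≠ b) {g : G}
    {σ : Equiv.Perm (Fin (2 ^ m + 1))} (hσ : Acts ε g σ) (hc : g * rr ε a b = rr ε a b * g) :
    σ a = a ∨ σ a = b := by
  by_contra hcon
  push Not at hcon
  have h1 := rr_conj hσ a b
  have h2 : g * rr ε a b * g⁻¹ = rr ε a b := by rw [hc]; group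
  rw [h2] at h1
  exact rr_ne h.ev h.five (σ.injective.ne hab) (Ne.symm hcon.1) (Ne.symm hcon.2) h1.symm

/-- `|C_S(r_ab)| 2^(m-1) ≤ |S|`. -/
theorem card_rr (h : Hyp S P ε) {a b : Fin (2 ^ m + 1)} (hab : a ≠ b) :
    Nat.card ↥((S : Subgroup G) ⊓ centralizer ({rr ε a b} : Set G)) * 2 ^ (m - 1) ≤
      Nat.card (S : Subgroup G) := by
  classical
  wlog ha : a ≠ 0 generalizing a b
  · rw [rr_symm h.ev]
    exact this hab.symm fun hb => ha fun h0 => hab (h0.trans hb.symm)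
  have h1 := card_fix h ha
  have hm2 : (2 : ℕ) ^ m = 2 * 2 ^ (m - 1) := by
    rw [← pow_succ']; congr 1; have := h.hm; omega
  set T := (S : Subgroup G) ⊓ centralizer ({rr ε a b} : Set G) with hT
  set U := (S : Subgroup G) ⊓ centralizer ({zz ε a} : Set G) with hU
  have hfix : ∀ {g : G} {σ : Equiv.Perm (Fin (2 ^ m + 1))}, g ∈ (S : Subgroup G) → Acts ε g σ →
      σ a = a → g ∈ U := by
    intro g σ hg hσ h2
    refine ⟨hg, mem_centralizer_singleton_iff.2 ?_⟩
    have h3 := zz_conj hσ a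
    rw [h2] at h3
    exact comm_of_conj h3
  have h2 : Nat.card T ≤ 2 * Nat.card U := by
    by_cases hTU : T ≤ U
    · have := Subgroup.card_le_of_le hTU
      omega
    · obtain ⟨c, hc, hcU⟩ := Set.not_subset.1 hTU
      replace hc : c ∈ T := hc
      obtain ⟨τ, hτ⟩ := h.ev.perm c (h.SP hc.1)
      have hτa : τ a = b := by
        rcases pair_of_cent h hab hτ (mem_centralizer_singleton_iff.1 hc.2) with h3 | h3
        · exact absurd (hfix hc.1 hτ h3) hcU
        · exact h3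
      refine card_le_two (c := c) fun y hy hyU => ?_
      obtain ⟨σ, hσ⟩ := h.ev.perm y (h.SP hy.1)
      have hσa : σ a = b := by
        rcases pair_of_cent h hab hσ (mem_centralizer_singleton_iff.1 hy.2) with h3 | h3
        · exact absurd (hfix hy.1 hσ h3) hyU
        · exact h3
      refine hfix (mul_mem (inv_mem hc.1) hy.1) (hτ.inv.mul hσ) ?_
      rw [Equiv.Perm.mul_apply, hσa, ← hτa]
      exact τ.symm_apply_apply a
  rw [hm2] at h1
  have h4 : Nat.card T * 2 ^ (m - 1) ≤ 2 * Nat.card U * 2 ^ (m - 1) := Nat.mul_le_mul_right _ h2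
  calc Nat.card T * 2 ^ (m - 1) ≤ 2 * Nat.card U * 2 ^ (m - 1) := h4
    _ = Nat.card U * (2 * 2 ^ (m - 1)) := by ring
    _ ≤ _ := h1

/-- **(6)** `C_S(r_ij)` is a Sylow 2-subgroup of `C_G(r_ij)` if `S` induces `(i j)`. -/
theorem syl (h : Hyp S P ε) (h3 : 3 ≤ m) {i j : Fin (2 ^ m + 1)} (hij : i ≠ j)
    (hb : ∃ b ∈ (S : Subgroup G), Acts ε b (Equiv.swap i j)) :
    ChoiceSit.Syl ((S : Subgroup G) ⊓ centralizer ({rr ε i j} : Set G))
      (centralizer ({rr ε i j} : Set G)) := by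
  have hc := cosetHyp h hij hb
  refine ⟨inf_le_right, S.isPGroup'.to_le inf_le_left, fun R hRC hR hTR => ?_⟩
  have hBR := (bau_le_cent (rr_zj h hij hb)).trans hTR
  have hRM := two_le_bau h h3 hR hBR
  obtain ⟨k, hk, hkS⟩ := conj_S h hR hRM
  have hM := Cfsg.Agent.Omega.NSix.Norm.evenSet' h.hm S h.ev h.SP h.fix0
  obtain ⟨σ, hσ⟩ := hM.perm k hk
  have h1 : cj k R ≤ (S : Subgroup G) ⊓ centralizer ({rr ε (σ i) (σ j)} : Set G) := by
    refine le_inf hkS ?_
    rintro _ ⟨x, hx, rfl⟩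
    rw [mem_centralizer_singleton_iff, ← rr_conj hσ]
    have h2 := mem_centralizer_singleton_iff.1 (hRC hx)
    change k * x * k⁻¹ * (k * rr ε i j * k⁻¹) = k * rr ε i j * k⁻¹ * (k * x * k⁻¹)
    calc k * x * k⁻¹ * (k * rr ε i j * k⁻¹) = k * (x * rr ε i j) * k⁻¹ := by group
      _ = k * (rr ε i j * x) * k⁻¹ := by rw [h2]
      _ = _ := by group
  have h4 := card_rr h (σ.injective.ne hij)
  have h5 := Subgroup.card_le_of_le h1
  rw [card_cj] at h5
  have h6 := hc.relIndex_S_le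
  have h7 : Nat.card ↥((S : Subgroup G) ⊓ centralizer ({rr ε i j} : Set G)) *
      ((S : Subgroup G) ⊓ centralizer ({rr ε i j} : Set G)).relIndex (S : Subgroup G) =
      Nat.card (S : Subgroup G) := CosetAct.Hyp.card_mul_relIndex' inf_le_left
  refine (Subgroup.eq_of_le_of_card_ge hTR ?_).symm
  set T := (S : Subgroup G) ⊓ centralizer ({rr ε i j} : Set G) with hT
  have h8 : Nat.card R * 2 ^ (m - 1) ≤ Nat.card T * 2 ^ (m - 1) := by
    calc Nat.card R * 2 ^ (m - 1)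
        ≤ Nat.card ↥((S : Subgroup G) ⊓ centralizer ({rr ε (σ i) (σ j)} : Set G)) * 2 ^ (m - 1) :=
          Nat.mul_le_mul_right _ h5
      _ ≤ Nat.card (S : Subgroup G) := h4
      _ = Nat.card T * T.relIndex (S : Subgroup G) := h7.symm
      _ ≤ Nat.card T * 2 ^ (m - 1) := Nat.mul_le_mul_left _ h6
  exact Nat.le_of_mul_le_mul_right h8 (by positivity)

/-! ### Fusion -/

/-- An even vector is conjugate to a union of pairs. -/
theorem exists_fc (hm : 1 ≤ m) (hd : Dat S P ε X Y N t r) {x : Fin (2 ^ m + 1) → ZMod 2}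
    (hx : ∑ i, x i = 0) : ∃ (σ : Equiv.Perm (Fin (2 ^ m + 1))) (c : ι → ZMod 2),
      x ∘ σ.symm = fc X Y c := by
  classical
  have h01 : ∀ a : ZMod 2, a = 0 ∨ a = 1 := by decide
  have hcι := card_idx hm hd
  have hfin : Finite ι := Nat.finite_of_card_ne_zero (by rw [hcι]; positivity)
  have := Fintype.ofFinite ι
  rw [Nat.card_eq_fintype_card] at hcι
  set s := Finset.univ.filter (fun i => x i = 1) with hs
  have hsum : ∑ i, x i = (s.card : ZMod 2) := by
    rw [← Finset.sum_boole]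
    refine Finset.sum_congr rfl fun i _ => ?_
    rcases h01 (x i) with h1 | h1
    · rw [h1, if_neg zero_ne_one]
    · rw [h1, if_pos rfl]
  rw [hx] at hsum
  have heven : 2 ∣ s.card := (ZMod.natCast_eq_zero_iff _ _).1 hsum.symm
  obtain ⟨k, hk⟩ := heven
  have hsle : s.card ≤ 2 ^ m + 1 := by
    have := Finset.card_le_univ s
    rwa [Fintype.card_fin] at this
  have hm2 : (2 : ℕ) ^ m = 2 * 2 ^ (m - 1) := by
    rw [← pow_succ']; congr 1; omega
  have hkι : k ≤ (Finset.univ : Finset ι).card := by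
    rw [Finset.card_univ, hcι]; omega
  obtain ⟨F, -, hF⟩ := Finset.exists_subset_card_eq hkι
  let c : ι → ZMod 2 := fun i => if i ∈ F then 1 else 0
  have hX : Function.Injective X := fun i j hij => by
    by_contra hne
    exact (hd.disj i j hne).1 hij
  have hY : Function.Injective Y := fun i j hij => by
    by_contra hne
    exact (hd.disj i j hne).2.2.2 hij
  set s' := F.image X ∪ F.image Y with hs'
  have hdis : Disjoint (F.image X) (F.image Y) := by
    rw [Finset.disjoint_left]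
    intro a ha hb
    obtain ⟨i, -, rfl⟩ := Finset.mem_image.1 ha
    obtain ⟨j, -, hj⟩ := Finset.mem_image.1 hb
    by_cases hij : i = j
    · subst hij; exact hd.ne i hj.symm
    · exact (hd.disj i j hij).2.1 hj.symm
  have hcs' : s'.card = s.card := by
    rw [hs', Finset.card_union_of_disjoint hdis, Finset.card_image_of_injective _ hX,
      Finset.card_image_of_injective _ hY, hF, hk]
    ring
  have hfc : ∀ a, fc X Y c a = 1 ↔ a ∈ s' := by
    intro a
    by_cases ha : a = 0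
    · rw [ha, fc_zero hd]
      refine ⟨fun h0 => absurd h0 zero_ne_one, fun h0 => ?_⟩
      exfalso
      rcases Finset.mem_union.1 h0 with h1 | h1
      · obtain ⟨i, -, hi⟩ := Finset.mem_image.1 h1
        exact hd.X0 i hi
      · obtain ⟨i, -, hi⟩ := Finset.mem_image.1 h1
        exact hd.Y0 i hi
    · obtain ⟨i, hi⟩ := hd.cov a ha
      rw [fc_eq hd c hi]
      have hci : c i = 1 ↔ i ∈ F := by
        show (if i ∈ F then (1 : ZMod 2) else 0) = 1 ↔ _
        split_ifs with h1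
        · exact ⟨fun _ => h1, fun _ => rfl⟩
        · exact ⟨fun h0 => absurd h0 zero_ne_one, fun h0 => absurd h0 h1⟩
      rw [hci, hs', Finset.mem_union, Finset.mem_image, Finset.mem_image]
      constructor
      · intro h1
        rcases hi with h2 | h2
        · exact Or.inl ⟨i, h1, h2⟩
        · exact Or.inr ⟨i, h1, h2⟩
      · rintro (⟨j, hj, hja⟩ | ⟨j, hj, hja⟩)
        · have : i = j := by
            by_contra hne
            rcases hi with h2 | h2
            · exact (hd.disj i j hne).1 (h2.trans hja.symm)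
            · exact (hd.disj i j hne).2.2.1 (h2.trans hja.symm)
          rwa [this]
        · have : i = j := by
            by_contra hne
            rcases hi with h2 | h2
            · exact (hd.disj i j hne).2.1 (h2.trans hja.symm)
            · exact (hd.disj i j hne).2.2.2 (h2.trans hja.symm)
          rwa [this]
  let e : {a // a ∈ s} ≃ {a // a ∈ s'} := Finset.equivOfCardEq hcs'.symm
  refine ⟨e.extendSubtype, c, ?_⟩
  have key : ∀ a, x a = fc X Y c (e.extendSubtype a) := by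
    intro a
    by_cases ha : a ∈ s
    · have h1 := e.extendSubtype_mem a ha
      rw [(hfc _).2 h1]
      exact (Finset.mem_filter.1 ha).2
    · have h1 := e.extendSubtype_not_mem a ha
      have h2 : fc X Y c (e.extendSubtype a) = 0 := by
        rcases h01 (fc X Y c (e.extendSubtype a)) with h2 | h2
        · exact h2
        · exact absurd ((hfc _).1 h2) h1
      rw [h2]
      rcases h01 (x a) with h4 | h4
      · exact h4
      · exact absurd (show a ∈ s by rw [hs, Finset.mem_filter]; exact ⟨Finset.mem_univ _, h4⟩) ha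
  funext b
  rw [Function.comp_apply, key, Equiv.apply_symm_apply]

/-- Every element of `V` is conjugate in `P` to an element of `Z_J`. -/
theorem exists_zj (h : Hyp S P ε) {v : G} (hv : v ∈ zl (S : Subgroup G) P) :
    ∃ g ∈ P, g * v * g⁻¹ ∈ zj (S : Subgroup G) := by
  obtain ⟨ι, X, Y, N, t, r, -, hd⟩ := h.exists_dat
  have hm : 1 ≤ m := by have := h.hm; omega
  obtain ⟨x, rfl⟩ := h.ev.surj v hv
  obtain ⟨σ, c, hσ⟩ := exists_fc hm hd (S5.Of.sum_hat hm x)
  obtain ⟨g, hg, hgσ⟩ := h.ev.full σ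
  refine ⟨g, hg, ?_⟩
  rw [← OfEven.eps_hat h.ev, hgσ, hσ]
  exact eps_fc_mem h hd c

/-- Fusion of elements of `Z_J`. -/
theorem control_zj (h : Hyp S P ε) (h3 : 3 ≤ m) {v g : G} (hv : v ∈ zj (S : Subgroup G))
    (hg : g * v * g⁻¹ ∈ zj (S : Subgroup G)) :
    ∃ k ∈ normalizer (zl (S : Subgroup G) P : Set G), k * v * k⁻¹ = g * v * g⁻¹ := by
  have hB2 : IsPGroup 2 (bau (S : Subgroup G)) := S.isPGroup'.to_le (ChoiceBase.bau_le _)
  have h1 : bau (S : Subgroup G) ≤ centralizer ({v} : Set G) :=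
    (bau_le_cent hv).trans inf_le_right
  have h2 : cj g⁻¹ (bau (S : Subgroup G)) ≤ centralizer ({v} : Set G) := by
    rintro _ ⟨b, hb, rfl⟩
    rw [mem_centralizer_singleton_iff]
    have h4 := mem_centralizer_singleton_iff.1 (bau_le_cent hg hb).2
    change g⁻¹ * b * g⁻¹⁻¹ * v = v * (g⁻¹ * b * g⁻¹⁻¹)
    calc g⁻¹ * b * g⁻¹⁻¹ * v = g⁻¹ * (b * (g * v * g⁻¹)) * g := by group
      _ = g⁻¹ * (g * v * g⁻¹ * b) * g := by rw [h4]
      _ = v * (g⁻¹ * b * g⁻¹⁻¹) := by group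
  obtain ⟨R, hR, hBR⟩ := ChoiceSit.exists_syl hB2 h1
  obtain ⟨R', hR', hBR'⟩ := ChoiceSit.exists_syl (isPGroup_cj g⁻¹ hB2) h2
  obtain ⟨c, hc, hcR⟩ := ChoiceSit.syl_conj hR hR'
  have h5 := mem_centralizer_singleton_iff.1 hc
  -- `B^c ≤ R' ≤ N_G(V)^(g⁻¹)`
  have h6 : bau (S : Subgroup G) ≤ cj g R' := by
    have := cj_mono g hBR'
    rwa [cj_cj_inv] at this
  have h7 := two_le_bau h h3 (isPGroup_cj g hR'.2.1) h6
  have h8 : cj (g * c) (bau (S : Subgroup G)) ≤ normalizer (zl (S : Subgroup G) P : Set G) := by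
    rw [← cj_cj]
    refine le_trans (cj_mono g ?_) h7
    rw [← hcR]
    exact cj_mono c hBR
  refine ⟨g * c, mem_of_bau h h3 h8, ?_⟩
  calc g * c * v * (g * c)⁻¹ = g * (c * v) * c⁻¹ * g⁻¹ := by group
    _ = g * v * g⁻¹ := by rw [h5]; group

/-- **(7)** `N_G(V)` controls fusion in `V`. -/
theorem control (h : Hyp S P ε) (h3 : 3 ≤ m) {v g : G} (hv : v ∈ zl (S : Subgroup G) P)
    (hg : g * v * g⁻¹ ∈ zl (S : Subgroup G) P) :
    ∃ k ∈ normalizer (zl (S : Subgroup G) P : Set G), k * v * k⁻¹ = g * v * g⁻¹ := by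
  obtain ⟨a, ha, hav⟩ := exists_zj h hv
  obtain ⟨b, hb, hbv⟩ := exists_zj h hg
  have haM := h.ev.le_normalizer ha
  have hbM := h.ev.le_normalizer hb
  obtain ⟨k, hk, hkv⟩ := control_zj h h3 (v := a * v * a⁻¹) (g := b * g * a⁻¹) hav (by
    have e : b * g * a⁻¹ * (a * v * a⁻¹) * (b * g * a⁻¹)⁻¹ = b * (g * v * g⁻¹) * b⁻¹ := by group
    rwa [e])
  refine ⟨b⁻¹ * k * a, mul_mem (mul_mem (inv_mem hbM) hk) haM, ?_⟩
  calc b⁻¹ * k * a * v * (b⁻¹ * k * a)⁻¹ = b⁻¹ * (k * (a * v * a⁻¹) * k⁻¹) * b := by group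
    _ = b⁻¹ * (b * g * a⁻¹ * (a * v * a⁻¹) * (b * g * a⁻¹)⁻¹) * b := by rw [hkv]
    _ = g * v * g⁻¹ := by group

end Cfsg.Agent.Omega.NSix.CaseJ.Fus
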