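import Cfsg.Agent.Omega.NSix.CaseJ.LemQ
import Cfsg.Agent.Omega.NSix.Norm

/-!
# OMEGA N6, case `J(S) ≰ O₂(P)`: LEMMA N

`main` : `V^g ≤ Q ≤ N_G(V^g)` implies `V^g = V`.
-/

set_option autoImplicit false
set_option linter.unusedSectionVars false

namespace Cfsg.Agent.Omega.NSix.CaseJ.LemN

open Subgroup Cfsg Cfsg.Agent.PLocal.ThompsonJ Cfsg.Agent.ZN Cfsg.Agent.ZN.ChoiceBase
open Cfsg.Agent.Omega.MinPar
open Cfsg.Agent.Omega.S5.Def Cfsg.Agent.Omega.S5.Syl Cfsg.Agent.Omega.S5.Pair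
open Cfsg.Agent.Omega.NSix.Base Cfsg.Agent.Omega.NSix.Basic
open Cfsg.Agent.Omega.NSix.CaseJ.Base

universe u

/-- A proper subgroup of a 2-group is contained in a subgroup of index 2. -/
theorem exists_index_two {R : Type*} [Group R] [Finite R] (hR : IsPGroup 2 R) {K : Subgroup R}
    (hK : K ≠ ⊤) : ∃ K₁ : Subgroup R, K ≤ K₁ ∧ K₁.index = 2 := by
  have : Fact (Nat.Prime 2) := ⟨Nat.prime_two⟩
  obtain ⟨a, ha⟩ := IsPGroup.iff_card.1 hR
  obtain ⟨b, hb⟩ := IsPGroup.iff_card.1 (hR.to_subgroup K)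
  have h1 : b < a := by
    by_contra hab
    apply hK
    apply Subgroup.eq_top_of_le_card
    rw [ha, hb]
    exact Nat.pow_le_pow_right (by norm_num) (by omega)
  obtain ⟨K₁, hc, hKK⟩ := Sylow.exists_subgroup_card_pow_prime_le (G := R) 2 (n := b) (m := a - 1)
    (by rw [ha]; exact pow_dvd_pow 2 (by omega)) K hb (by omega)
  refine ⟨K₁, hKK, ?_⟩
  have h2 := K₁.card_mul_index
  rw [hc, ha] at h2
  have h3 : 2 ^ a = 2 ^ (a - 1) * 2 := by
    rw [← pow_succ]; congr 1; omega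
  rw [h3] at h2
  exact Nat.eq_of_mul_eq_mul_left (by positivity) h2

section perm

variable {Ω : Type*} {R : Type*} [Group R] [Finite R] (π : R →* Equiv.Perm Ω) {x : Ω}

open Classical in
/-- Half of an orbit of a 2-group. -/
theorem half (hR : IsPGroup 2 R) (hx : ∃ q, π q x ≠ x) : ∃ (K₁ : Subgroup R) (e₁ e : Ω → ZMod 2),
    (∃ k, k ∉ K₁) ∧ e x = 1 ∧ (∀ k, e ∘ (π k).symm = e) ∧ (∀ k ∈ K₁, e₁ ∘ (π k).symm = e₁) ∧
      ∀ k, k ∉ K₁ → e₁ ∘ (π k).symm = e + e₁ := by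
  set K : Subgroup R := (MulAction.stabilizer (Equiv.Perm Ω) x).comap π with hK
  have hmem : ∀ k : R, k ∈ K ↔ π k x = x := fun k => Iff.rfl
  have hKt : K ≠ ⊤ := by
    intro h0
    obtain ⟨q, hq⟩ := hx
    exact hq ((hmem q).1 (h0 ▸ mem_top q))
  obtain ⟨K₁, hKK, hi⟩ := exists_index_two hR hKt
  have hk₀ : ∃ k, k ∉ K₁ := by
    by_contra hcon
    push Not at hcon
    have : K₁ = ⊤ := (Subgroup.eq_top_iff' K₁).2 hcon
    rw [this, Subgroup.index_top] at hi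
    omega
  have hpi : ∀ (k k' : R), π (k * k') x = π k (π k' x) := fun k k' => by
    rw [map_mul, Equiv.Perm.mul_apply]
  have hsymm : ∀ (k : R) (y z : Ω), (π k).symm y = z ↔ π k z = y := fun k y z => by
    rw [Equiv.symm_apply_eq, eq_comm]
  refine ⟨K₁, fun y => if ∃ k ∈ K₁, π k x = y then 1 else 0, fun y => if ∃ k, π k x = y then 1 else 0,
    hk₀, ?_, fun k => ?_, fun k hk => ?_, fun k hk => ?_⟩
  · exact if_pos ⟨1, by rw [map_one, Equiv.Perm.one_apply]⟩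
  · funext y
    have h1 : (∃ k', π k' x = (π k).symm y) ↔ ∃ k', π k' x = y := by
      constructor
      · rintro ⟨k', hk'⟩
        exact ⟨k * k', by rw [hpi, hk', Equiv.apply_symm_apply]⟩
      · rintro ⟨k', hk'⟩
        refine ⟨k⁻¹ * k', ?_⟩
        rw [eq_comm, hsymm, ← hpi, mul_inv_cancel_left]
        exact hk'
    simp only [Function.comp_apply, h1]
  · funext y
    have h1 : (∃ k' ∈ K₁, π k' x = (π k).symm y) ↔ ∃ k' ∈ K₁, π k' x = y := by
      constructor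
      · rintro ⟨k', hk'K, hk'⟩
        exact ⟨k * k', mul_mem hk hk'K, by rw [hpi, hk', Equiv.apply_symm_apply]⟩
      · rintro ⟨k', hk'K, hk'⟩
        refine ⟨k⁻¹ * k', mul_mem (inv_mem hk) hk'K, ?_⟩
        rw [eq_comm, hsymm, ← hpi, mul_inv_cancel_left]
        exact hk'
    simp only [Function.comp_apply, h1]
  · funext y
    have h1 : (∃ k' ∈ K₁, π k' x = (π k).symm y) ↔
        (∃ k', π k' x = y) ∧ ¬ ∃ k' ∈ K₁, π k' x = y := by
      constructor
      · rintro ⟨k', hk'K, hk'⟩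
        have h2 : π (k * k') x = y := by rw [hpi, hk', Equiv.apply_symm_apply]
        refine ⟨⟨k * k', h2⟩, ?_⟩
        rintro ⟨l, hl, hl'⟩
        have h3 : l⁻¹ * (k * k') ∈ K := by
          rw [hmem, hpi, h2, ← hl', ← hpi, inv_mul_cancel, map_one, Equiv.Perm.one_apply]
        have h4 := mul_mem hl (hKK h3)
        rw [mul_inv_cancel_left] at h4
        have h5 := mul_mem h4 (inv_mem hk'K)
        rw [mul_inv_cancel_right] at h5
        exact hk h5
      · rintro ⟨⟨k', hk'⟩, hno⟩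
        refine ⟨k⁻¹ * k', ?_, ?_⟩
        · rw [Subgroup.mul_mem_iff_of_index_two hi]
          have h2 : k' ∉ K₁ := fun h0 => hno ⟨k', h0, hk'⟩
          constructor
          · intro h3
            exact absurd ((inv_mem_iff).1 h3) hk
          · exact fun h3 => absurd h3 h2
        · rw [eq_comm, hsymm, ← hpi, mul_inv_cancel_left]
          exact hk'
    simp only [Function.comp_apply, Pi.add_apply, h1]
    by_cases h2 : ∃ k' ∈ K₁, π k' x = y
    · have h3 : ∃ k', π k' x = y := by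
        obtain ⟨k', -, hk'⟩ := h2
        exact ⟨k', hk'⟩
      rw [if_pos h2, if_pos h3, if_neg (fun h0 => h0.2 h2)]
      decide
    · rw [if_neg h2, add_zero]
      by_cases h3 : ∃ k', π k' x = y
      · rw [if_pos h3, if_pos ⟨h3, h2⟩]
      · rw [if_neg h3, if_neg fun h0 => h3 h0.1]

end perm

variable {G : Type u} [Group G] [Finite G] {S : Sylow 2 G} {P : Subgroup G} {m : ℕ}
  {ε : (Fin (2 ^ m + 1) → ZMod 2) → G}

/-- **LEMMA N.** -/
theorem main (h : Hyp S P ε) {g : G}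
    (hQ : ∀ v ∈ zl (S : Subgroup G) P, g * v * g⁻¹ ∈ o2 P)
    (hn : ∀ q ∈ o2 P, ∀ v ∈ zl (S : Subgroup G) P,
      q * (g * v * g⁻¹) * q⁻¹ ∈ cj g (zl (S : Subgroup G) P)) :
    g ∈ normalizer (zl (S : Subgroup G) P : Set G) := by
  set V := zl (S : Subgroup G) P with hV
  have hm1 : 1 ≤ m := by have := h.hm; omega
  have hM : EvenSet (2 ^ m + 1) V (normalizer (V : Set G)) ε :=
    Cfsg.Agent.Omega.NSix.Norm.evenSet' h.hm S h.ev h.SP h.fix0
  have hRM : cj g⁻¹ (o2 P) ≤ normalizer (V : Set G) := by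
    rintro _ ⟨q, hq, rfl⟩
    refine mem_normalizer_of_cj_le ?_
    rintro _ ⟨v, hv, rfl⟩
    have h1 := hn q hq v hv
    rw [mem_cj] at h1
    change (g⁻¹ * q * g⁻¹⁻¹) * v * (g⁻¹ * q * g⁻¹⁻¹)⁻¹ ∈ V
    have e : (g⁻¹ * q * g⁻¹⁻¹) * v * (g⁻¹ * q * g⁻¹⁻¹)⁻¹ =
        g⁻¹ * (q * (g * v * g⁻¹) * q⁻¹) * g := by group
    rw [e]; exact h1
  let π : ↥(cj g⁻¹ (o2 P)) →* Equiv.Perm (Fin (2 ^ m + 1)) :=
    (hM.hom h.three).comp (Subgroup.inclusion hRM)
  have hπ : ∀ k : ↥(cj g⁻¹ (o2 P)), Acts ε (k : G) (π k) := fun k =>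
    hM.acts_hom h.three (Subgroup.inclusion hRM k)
  have hR : IsPGroup 2 ↥(cj g⁻¹ (o2 P)) := isPGroup_cj _ (MinSimple.VModule.o2_isPGroup P)
  have hqR : ∀ q ∈ o2 P, g⁻¹ * q * g ∈ cj g⁻¹ (o2 P) := fun q hq => by
    rw [mem_cj]
    have e : g⁻¹⁻¹ * (g⁻¹ * q * g) * g⁻¹ = q := by group
    rwa [e]
  have hconj : ∀ (q : G) (hq : q ∈ o2 P) (y : Fin (2 ^ m + 1) → ZMod 2),
      q * (g * ε y * g⁻¹) * q⁻¹ = g * ε (y ∘ (π ⟨_, hqR q hq⟩).symm) * g⁻¹ := by
    intro q hq y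
    rw [← hπ ⟨_, hqR q hq⟩ y]
    group
  by_cases hx : ∃ x q, π q x ≠ x
  · exfalso
    obtain ⟨x, hx⟩ := hx
    obtain ⟨K₁, e₁, e, ⟨k₀, hk₀⟩, hex, he, he₁, he₂⟩ := half π hR hx
    have hvQ := hQ _ (hM.mem e)
    have hv2 : (g * ε e * g⁻¹) * (g * ε e * g⁻¹) = 1 := by
      calc (g * ε e * g⁻¹) * (g * ε e * g⁻¹) = g * (ε e * ε e) * g⁻¹ := by group
        _ = 1 := by rw [hM.sq]; group
    have hvV : g * ε e * g⁻¹ ∈ V := by
      refine LemQ.oz h hvQ hv2 fun q hq => ?_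
      have h1 := hconj q hq e
      rw [he] at h1
      exact LemQ.comm_of_conj h1
    have hv1 : g * ε e * g⁻¹ ≠ 1 := by
      intro h0
      have h1 : ε e = 1 := by
        calc ε e = g⁻¹ * (g * ε e * g⁻¹) * g := by group
          _ = 1 := by rw [h0]; group
      rcases (hM.ker _).1 h1 with h2 | h2
      · rw [h2] at hex
        exact zero_ne_one hex
      · have h3 := he₂ k₀ hk₀
        have h4 : ∑ i, e i = 0 := by
          have h5 : e = e₁ ∘ (π k₀).symm + e₁ := by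
            rw [h3, add_assoc, add_self, add_zero]
          rw [h5]
          simp only [Pi.add_apply, Finset.sum_add_distrib, Function.comp_apply]
          rw [Equiv.sum_comp (π k₀).symm e₁]
          exact CharTwo.add_self_eq_zero _
        rw [h2] at h4
        simp only [Pi.one_apply, Finset.sum_const, Finset.card_univ, Fintype.card_fin, nsmul_eq_mul,
          mul_one] at h4
        rw [S5.Of.cast_odd hm1] at h4
        exact one_ne_zero h4
    have huV : g * ε e₁ * g⁻¹ ∈ V := by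
      refine LemQ.mem h (hQ _ (hM.mem e₁)) ?_ hvV hv1 fun q hq => ?_
      · calc (g * ε e₁ * g⁻¹) * (g * ε e₁ * g⁻¹) = g * (ε e₁ * ε e₁) * g⁻¹ := by group
          _ = 1 := by rw [hM.sq]; group
      · rw [hconj q hq e₁]
        by_cases hk : (⟨_, hqR q hq⟩ : ↥(cj g⁻¹ (o2 P))) ∈ K₁
        · left; rw [he₁ _ hk]
        · right; rw [he₂ _ hk, hM.add]; group
    -- the element `g k₀ g⁻¹` of `Q`
    have hk₀R := k₀.2
    rw [mem_cj, inv_inv] at hk₀R
    have h1 := hconj _ hk₀R e₁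
    have e3 : (⟨g⁻¹ * (g * (k₀ : G) * g⁻¹) * g, hqR _ hk₀R⟩ : ↥(cj g⁻¹ (o2 P))) = k₀ := by
      apply Subtype.ext
      show g⁻¹ * (g * (k₀ : G) * g⁻¹) * g = k₀
      group
    rw [e3, he₂ _ hk₀, h.VcQ hk₀R huV, mul_inv_cancel_right, hM.add] at h1
    apply hv1
    have h2 : g * ε e₁ * g⁻¹ = (g * ε e * g⁻¹) * (g * ε e₁ * g⁻¹) := h1.trans (by group)
    have h3 := mul_right_cancel (b := g * ε e₁ * g⁻¹) (a := 1) (c := g * ε e * g⁻¹)
      (by rw [one_mul]; exact h2)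
    exact h3.symm
  · push Not at hx
    refine mem_normalizer_of_cj_le ?_
    rintro _ ⟨v, hv, rfl⟩
    change g * v * g⁻¹ ∈ V
    obtain ⟨y, rfl⟩ := hM.surj v hv
    refine LemQ.oz h (hQ _ hv) ?_ fun q hq => ?_
    · calc (g * ε y * g⁻¹) * (g * ε y * g⁻¹) = g * (ε y * ε y) * g⁻¹ := by group
        _ = 1 := by rw [hM.sq]; group
    · have h1 := hconj q hq y
      have h2 : y ∘ (π ⟨_, hqR q hq⟩).symm = y := by
        funext z
        rw [Function.comp_apply]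
        congr 1
        rw [Equiv.symm_apply_eq]
        exact (hx z _).symm
      rw [h2] at h1
      exact LemQ.comm_of_conj h1

end Cfsg.Agent.Omega.NSix.CaseJ.LemN
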