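import Cfsg.Agent.Omega.NSix.CaseJ.Blk

/-!
# OMEGA N6, case `J(S) ≰ O₂(P)`: `N_G(B) ≤ N_G(V)` and `N_G(J(S)) ≤ N_G(V)` for `m ≥ 3`
-/

set_option autoImplicit false
set_option linter.unusedSectionVars false

namespace Cfsg.Agent.Omega.NSix.CaseJ.Norm

open Subgroup Cfsg Cfsg.Agent.PLocal.ThompsonJ Cfsg.Agent.ZN Cfsg.Agent.ZN.ChoiceBase
open Cfsg.Agent.ZN.ChoiceSit Cfsg.Agent.PLocal.ElemAbSup
open Cfsg.Agent.Omega.MinPar
open Cfsg.Agent.Omega.S5.Def Cfsg.Agent.Omega.S5.Syl Cfsg.Agent.Omega.S5.Pair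
open Cfsg.Agent.Omega.NSix.Base Cfsg.Agent.Omega.NSix.Basic
open Cfsg.Agent.Omega.SQ1.Bau (mem_AA_of_comm elem_comm elem_sq mem_sup_comm card_sup_comm)
open Cfsg.Agent.Omega.SQ1 (BauS.In)
open Cfsg.Agent.Omega.NSix.CaseJ.Base Cfsg.Agent.Omega.NSix.CaseJ.Exact
open Cfsg.Agent.Omega.NSix.CaseJ.LemQ Cfsg.Agent.Omega.NSix.CaseJ.Blk

universe u

variable {G : Type u} [Group G] [Finite G] {S : Sylow 2 G} {P : Subgroup G} {m : ℕ}
  {ε : (Fin (2 ^ m + 1) → ZMod 2) → G} {ι : Type} {X Y : ι → Fin (2 ^ m + 1)} {N : ι → Subgroup G}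
  {t r : ι → G}

/-- An element of `G` which moves all `N i` into `V` normalises `V`. -/
theorem mem_of_N (h : Hyp S P ε) (hd : Dat S P ε X Y N t r) {g : G}
    (hg : ∀ i, ∀ a ∈ N i, g * a * g⁻¹ ∈ zl (S : Subgroup G) P) :
    g ∈ normalizer (zl (S : Subgroup G) P : Set G) := by
  refine mem_normalizer_of_cj_le ?_
  have h1 : (⨆ i, N i) ≤ cj g⁻¹ (zl (S : Subgroup G) P) := by
    refine iSup_le fun i a ha => ?_
    rw [mem_cj, inv_inv]
    exact hg i a ha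
  rw [cj_le_iff]
  exact (V_le_iSup h hd).trans h1

/-- It suffices to know it for one element of the pair. -/
theorem mem_of_X (h : Hyp S P ε) (hd : Dat S P ε X Y N t r) {g : G}
    (hX : ∀ i, g * rr ε 0 (X i) * g⁻¹ ∈ zl (S : Subgroup G) P)
    (hD : ∀ i, g * rr ε (X i) (Y i) * g⁻¹ ∈ zl (S : Subgroup G) P) :
    g ∈ normalizer (zl (S : Subgroup G) P : Set G) := by
  refine mem_of_N h hd fun i a ha => ?_
  rcases (hd.memN i a).1 ha with rfl | rfl | rfl | rfl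
  · have e : g * 1 * g⁻¹ = 1 := by group
    rw [e]; exact one_mem _
  · exact hX i
  · have h1 := mul_mem (hX i) (hD i)
    have e : g * rr ε 0 (X i) * g⁻¹ * (g * rr ε (X i) (Y i) * g⁻¹) =
        g * (rr ε 0 (X i) * rr ε (X i) (Y i)) * g⁻¹ := by group
    rwa [e, rr_add h.ev] at h1
  · exact hD i

theorem X_mem (hd : Dat S P ε X Y N t r) (i : ι) : rr ε 0 (X i) ∈ N i :=
  (hd.memN i _).2 (Or.inr (Or.inl rfl))

theorem sq_conj {g x : G} (hx : x * x = 1) : (g * x * g⁻¹) * (g * x * g⁻¹) = 1 := by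
  calc (g * x * g⁻¹) * (g * x * g⁻¹) = g * (x * x) * g⁻¹ := by group
    _ = 1 := by rw [hx]; group

/-- **(4)** `N_G(B) ≤ N_G(V)`. -/
theorem bau_le (h : Hyp S P ε) (h3 : 3 ≤ m) :
    normalizer ((bau (S : Subgroup G) : Subgroup G) : Set G) ≤
      normalizer (zl (S : Subgroup G) P : Set G) := by
  obtain ⟨ι, X, Y, N, t, r, -, hd⟩ := h.exists_dat
  choose L hL using fun i => hd.bas.exists_blk i
  intro g hg
  have hgZ : cj g (zj (S : Subgroup G)) = zj (S : Subgroup G) := by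
    have h1 := normalizer_le_of_cj (F := zj) zj_cj (bau (S : Subgroup G)) hg
    rw [ChoiceBase.zj_bau] at h1
    exact cj_eq_of_mem_normalizer h1
  have hgZ' : ∀ z ∈ zj (S : Subgroup G), g * z * g⁻¹ ∈ zj (S : Subgroup G) := fun z hz => by
    rw [← hgZ]; exact ⟨z, hz, rfl⟩
  have hgB := cj_eq_of_mem_normalizer hg
  have hgB' : ∀ b ∈ bau (S : Subgroup G), g * b * g⁻¹ ∈ bau (S : Subgroup G) := fun b hb => by
    rw [← hgB]; exact ⟨b, hb, rfl⟩
  -- the modules commute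
  have hcomm : ∀ a ∈ zl (S : Subgroup G) P, ∀ b ∈ zl (S : Subgroup G) P,
      (1 * a * 1⁻¹) * (g * b * g⁻¹) = (g * b * g⁻¹) * (1 * a * 1⁻¹) := by
    intro a ha b hb
    refine comm_all h hd (fun i j a ha b hb => ?_) ha hb
    have hB : cj g (HH S (L j)) ≤ zj (S : Subgroup G) := by
      rw [← hgZ]; exact cj_mono g inf_le_left
    obtain ⟨y, ⟨hy1, hy2⟩, hy⟩ := exists_two h hd h3 (A := HH S (L i)) (B := cj g (HH S (L j)))
      inf_le_left hB (card_HH h hd (hL i)) (card_cj_HH (card_HH h hd (hL j)) g)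
    have hy1' := mem_HH.1 hy1
    replace hy2 : y ∈ cj g (HH S (L j)) := hy2
    rw [mem_cj, mem_HH] at hy2
    have hyy : y * y = 1 := h.ev.sq_mem (LemQ.zj_le h hy1'.1)
    refine comm_conj h hd (hL i) (hL j) hy hyy (fun l hl => ?_) (fun l hl => ?_) ha hb
    · have := hy1'.2 l hl
      calc 1 * l * 1⁻¹ * y = l * y := by group
        _ = y * l := this
        _ = y * (1 * l * 1⁻¹) := by group
    · have := hy2.2 l hl
      calc g * l * g⁻¹ * y = g * (l * (g⁻¹ * y * g)) * g⁻¹ := by group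
        _ = g * ((g⁻¹ * y * g) * l) * g⁻¹ := by rw [this]
        _ = y * (g * l * g⁻¹) := by group
  -- `V^g ≤ Q`
  have hVgQ : ∀ a ∈ zl (S : Subgroup G) P, g * a * g⁻¹ ∈ o2 P := by
    intro a ha
    refine h.cS (ChoiceBase.bau_le _ (hgB' a (VB h ha))) fun v hv => ?_
    have h1 := hcomm v hv a ha
    have e : (1 : G) * v * 1⁻¹ = v := by group
    rw [e] at h1
    exact h1.symm
  have hDV : ∀ i, g * rr ε (X i) (Y i) * g⁻¹ ∈ zl (S : Subgroup G) P := fun i =>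
    LemQ.zj_le h (hgZ' _ (hd.bas.d_mem_Z i))
  refine mem_of_X h hd (fun i => ?_) hDV
  refine LemQ.mem h (v := g * rr ε (X i) (Y i) * g⁻¹) (hVgQ _ (rr_mem h.ev _ _))
    (sq_conj (rr_sq h.ev _ _)) (hDV i) ?_ fun q hq => ?_
  · intro e
    apply rr_ne_one h.ev h.three (hd.ne i)
    calc rr ε (X i) (Y i) = g⁻¹ * (g * rr ε (X i) (Y i) * g⁻¹) * g := by group
      _ = 1 := by rw [e]; group
  · have hqB : g⁻¹ * q * g ∈ bau (S : Subgroup G) := by
      have h1 : q ∈ cj g (bau (S : Subgroup G)) := by rw [hgB]; exact QB h hq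
      rwa [mem_cj] at h1
    have e : q * (g * rr ε 0 (X i) * g⁻¹) * q⁻¹ =
        g * ((g⁻¹ * q * g) * rr ε 0 (X i) * (g⁻¹ * q * g)⁻¹) * g⁻¹ := by group
    rcases bau_N hd hqB (X_mem hd i) with h1 | h1
    · left; rw [e, h1]
    · right; rw [e, h1]; group

/-! ### `N_G(J(S))` -/

theorem exists_notMem (F : Finset ι) (hF : F.card < Nat.card ι) : ∃ k, k ∉ F := by
  classical
  by_contra hcon
  push Not at hcon
  have hfin : Finite ι := Nat.finite_of_card_ne_zero (by omega)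
  have := Fintype.ofFinite ι
  have h1 : (Finset.univ : Finset ι) ⊆ F := fun x _ => hcon x
  have h2 := Finset.card_le_card h1
  rw [Finset.card_univ, ← Nat.card_eq_fintype_card] at h2
  omega

theorem exists_idx (hm : 3 ≤ m) (hd : Dat S P ε X Y N t r) (i : ι) :
    ∃ k q, k ≠ i ∧ q ≠ i ∧ q ≠ k := by
  classical
  have h1 := card_idx (by omega) hd
  have h2 : 2 ^ 2 ≤ 2 ^ (m - 1) := Nat.pow_le_pow_right (by norm_num) (by omega)
  obtain ⟨k, hk⟩ := exists_notMem ({i} : Finset ι) (by rw [Finset.card_singleton]; omega)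
  have h4 : ({i, k} : Finset ι).card ≤ 2 := Finset.card_le_two
  obtain ⟨q, hq⟩ := exists_notMem ({i, k} : Finset ι) (by omega)
  simp only [Finset.mem_insert, Finset.mem_singleton, not_or] at hk hq
  exact ⟨k, q, hk, hq.1, hq.2⟩

theorem jj_zj {g : G} (hg : g ∈ normalizer ((jj (S : Subgroup G) : Subgroup G) : Set G)) :
    g ∈ normalizer ((zj (S : Subgroup G) : Subgroup G) : Set G) := by
  refine mem_normalizer_of_cj_le ?_
  rintro _ ⟨z, hz, rfl⟩
  have h1 := ChoiceBase.mem_zj.1 hz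
  change g * z * g⁻¹ ∈ _
  refine ChoiceBase.mem_zj.2 ⟨(mem_normalizer_iff.1 hg z).1 h1.1, ?_, fun y hy => ?_⟩
  · have := h1.2.1
    calc (g * z * g⁻¹) ^ 2 = g * z ^ 2 * g⁻¹ := by rw [pow_two, pow_two]; group
      _ = 1 := by rw [this]; group
  · have h2 : g⁻¹ * y * g ∈ jj (S : Subgroup G) := by
      have := (mem_normalizer_iff.1 (inv_mem hg) y).1 hy
      rwa [inv_inv] at this
    have h3 := h1.2.2 _ h2
    calc y * (g * z * g⁻¹) = g * ((g⁻¹ * y * g) * z) * g⁻¹ := by group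
      _ = g * (z * (g⁻¹ * y * g)) * g⁻¹ := by rw [h3]
      _ = g * z * g⁻¹ * y := by group

/-- `C_{N(J)}(Z_J) ≤ N_G(V)`. -/
theorem jj_cent (h : Hyp S P ε) (h3 : 3 ≤ m) {c : G}
    (hc : c ∈ normalizer ((jj (S : Subgroup G) : Subgroup G) : Set G))
    (hcZ : ∀ z ∈ zj (S : Subgroup G), c * z = z * c) :
    c ∈ normalizer (zl (S : Subgroup G) P : Set G) := by
  obtain ⟨ι, X, Y, N, t, r, -, hd⟩ := h.exists_dat
  choose L hL using fun i => hd.bas.exists_blk i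
  have hcJ : ∀ x ∈ jj (S : Subgroup G), c * x * c⁻¹ ∈ jj (S : Subgroup G) := fun x hx =>
    (mem_normalizer_iff.1 hc x).1 hx
  have hcJ' : ∀ x ∈ jj (S : Subgroup G), c⁻¹ * x * c ∈ jj (S : Subgroup G) := fun x hx => by
    have := (mem_normalizer_iff.1 (inv_mem hc) x).1 hx
    rwa [inv_inv] at this
  have hcz' : ∀ z ∈ zj (S : Subgroup G), c * z * c⁻¹ = z := fun z hz => by
    rw [hcZ z hz]; group
  -- the centraliser of `L^c`
  have hcent : ∀ (i : ι), ∀ y ∈ HH S (L i), ∀ l ∈ L i, (c * l * c⁻¹) * y = y * (c * l * c⁻¹) := by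
    intro i y hy l hl
    have h1 := mem_HH.1 hy
    have h2 := hcZ y h1.1
    have h4 : c⁻¹ * y = y * c⁻¹ := by
      calc c⁻¹ * y = c⁻¹ * (y * c) * c⁻¹ := by group
        _ = c⁻¹ * (c * y) * c⁻¹ := by rw [h2]
        _ = y * c⁻¹ := by group
    calc (c * l * c⁻¹) * y = c * l * (c⁻¹ * y) := by group
      _ = c * (l * y) * c⁻¹ := by rw [h4]; group
      _ = (c * y) * l * c⁻¹ := by rw [h1.2 l hl]; group
      _ = y * (c * l * c⁻¹) := by rw [h2]; group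
  have hcomm : ∀ a ∈ zl (S : Subgroup G) P, ∀ b ∈ zl (S : Subgroup G) P,
      (1 * a * 1⁻¹) * (c * b * c⁻¹) = (c * b * c⁻¹) * (1 * a * 1⁻¹) := by
    intro a ha b hb
    refine comm_all h hd (fun i j a ha b hb => ?_) ha hb
    obtain ⟨y, ⟨hy1, hy2⟩, hy⟩ := exists_two h hd h3 (A := HH S (L i)) (B := HH S (L j))
      inf_le_left inf_le_left (card_HH h hd (hL i)) (card_HH h hd (hL j))
    have hy1' := mem_HH.1 hy1
    have hyy : y * y = 1 := h.ev.sq_mem (LemQ.zj_le h hy1'.1)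
    refine comm_conj h hd (hL i) (hL j) hy hyy (fun l hl => ?_) (hcent j y hy2) ha hb
    have := hy1'.2 l hl
    calc 1 * l * 1⁻¹ * y = l * y := by group
      _ = y * l := this
      _ = y * (1 * l * 1⁻¹) := by group
  have hVcQ : ∀ a ∈ zl (S : Subgroup G) P, c * a * c⁻¹ ∈ o2 P := by
    intro a ha
    refine h.cS (ChoiceBase.jj_le _ (hcJ a (VJ h ha))) fun v hv => ?_
    have h1 := hcomm v hv a ha
    have e : (1 : G) * v * 1⁻¹ = v := by group
    rw [e] at h1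
    exact h1.symm
  have hdZ : ∀ i, rr ε (X i) (Y i) ∈ zj (S : Subgroup G) := fun i => hd.bas.d_mem_Z i
  refine mem_of_X h hd (fun i => ?_) fun i => by
    rw [hcz' _ (hdZ i)]; exact rr_mem h.ev _ _
  obtain ⟨k, q, hki, hqi, hqk⟩ := exists_idx h3 hd i
  obtain ⟨u, hu⟩ : ∃ u, u = c * rr ε 0 (X i) * c⁻¹ := ⟨_, rfl⟩
  obtain ⟨v, hv⟩ : ∃ v, v = rr ε (X i) (Y i) := ⟨_, rfl⟩
  have hvV : v ∈ zl (S : Subgroup G) P := hv ▸ rr_mem h.ev _ _
  have hvZ : v ∈ zj (S : Subgroup G) := hv ▸ hdZ i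
  have hv1 : v ≠ 1 := hv ▸ rr_ne_one h.ev h.three (hd.ne i)
  have hvv : v * v = 1 := h.ev.sq_mem hvV
  have huQ : u ∈ o2 P := hu ▸ hVcQ _ (rr_mem h.ev _ _)
  have hu2 : u * u = 1 := hu ▸ sq_conj (rr_sq h.ev _ _)
  rw [← hu]
  -- `[u, J] = ⟨v⟩`
  have huJ : ∀ j ∈ jj (S : Subgroup G), j * u * j⁻¹ = u ∨ j * u * j⁻¹ = v * u := by
    intro j hj
    have e : j * (c * rr ε 0 (X i) * c⁻¹) * j⁻¹ =
        c * ((c⁻¹ * j * c) * rr ε 0 (X i) * (c⁻¹ * j * c)⁻¹) * c⁻¹ := by group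
    rcases bau_N hd (ChoiceBase.jj_le_bau _ (hcJ' j hj)) (X_mem hd i) with h1 | h1
    · left; rw [hu, e, h1]
    · right
      rw [hu, e, h1, ← hv]
      have h2 := hcz' v hvZ
      calc c * (v * rr ε 0 (X i)) * c⁻¹ = (c * v * c⁻¹) * (c * rr ε 0 (X i) * c⁻¹) := by group
        _ = _ := by rw [h2]
  have hdisj := hd.disj i k hki.symm
  obtain ⟨A, hA⟩ := exists_ex h hdisj.1
  obtain ⟨a, ha, ha'⟩ := hA.ex
  have haP := hA.AP ha
  obtain ⟨u', hu'⟩ : ∃ u', u' = a * u * a⁻¹ := ⟨_, rfl⟩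
  obtain ⟨v', hv'⟩ : ∃ v', v' = a * v * a⁻¹ := ⟨_, rfl⟩
  have hv'V : v' ∈ zl (S : Subgroup G) P := hv' ▸ h.Vn haP hvV
  have hva : a * v * a⁻¹ ≠ v := by
    rw [hv, rr_conj ha', Equiv.swap_apply_left, Equiv.swap_apply_of_ne_of_ne (hd.ne i).symm hdisj.2.2.1]
    intro e
    apply rr_ne_one h.ev h.three hdisj.1
    rw [← rr_add h.ev (X i) (Y i) (X k), rr_symm h.ev (Y i) (X k), e, rr_sq h.ev]
  -- `u` and `u^a` commute
  have hdisjq := hd.disj i q hqi.symm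
  have hdisjk := hd.disj k q hqk.symm
  have haw : a * rr ε (X q) (Y q) * a⁻¹ = rr ε (X q) (Y q) := by
    rw [rr_conj ha', Equiv.swap_apply_of_ne_of_ne hdisjq.1.symm hdisjk.1.symm,
      Equiv.swap_apply_of_ne_of_ne hdisjq.2.1.symm hdisjk.2.1.symm]
  have hcommu : u * u' = u' * u := by
    have hw := d_mem_HH hd (hL i) hqi.symm
    have h1 := comm_conj h hd (hL i) (hL i) (x := c) (y := a * c)
      (rr_ne_one h.ev h.three (hd.ne q)) (rr_sq h.ev _ _) (hcent i _ hw) (fun l hl => ?_)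
      (X_mem hd i) (X_mem hd i)
    · have e : a * c * rr ε 0 (X i) * (a * c)⁻¹ = a * (c * rr ε 0 (X i) * c⁻¹) * a⁻¹ := by group
      rw [e, ← hu, ← hu'] at h1
      exact h1
    · have h2 := hcent i _ hw l hl
      set w := rr ε (X q) (Y q) with hwdef
      have h4 : a⁻¹ * w * a = w := by
        calc a⁻¹ * w * a = a⁻¹ * (a * w * a⁻¹) * a := by rw [haw]
          _ = w := by group
      calc a * c * l * (a * c)⁻¹ * w = a * ((c * l * c⁻¹) * (a⁻¹ * w * a)) * a⁻¹ := by group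
        _ = a * (w * (c * l * c⁻¹)) * a⁻¹ := by rw [h4, h2]
        _ = (a * w * a⁻¹) * (a * c * l * (a * c)⁻¹) := by group
        _ = w * (a * c * l * (a * c)⁻¹) := by rw [haw]
  have hJQ : jj (o2 P) ≤ jj (S : Subgroup G) := hd.bas.jjQ_le
  obtain ⟨w, hw, hw'⟩ := core h hA hdisj.1 (R := jj (o2 P)) ((hA.A0_le h hdisj.1).1) huQ hu2 hvV
    (fun r hr => huJ r (hJQ hr)) ha ha' hva hu' hcommu
  -- `[u, J(Q)] = 1`
  have hPJQ : P ≤ normalizer ((jj (o2 P) : Subgroup G) : Set G) :=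
    (ZN.le_normalizer_o2 P).trans (normalizer_le_of_cj (F := jj) jj_cj (o2 P))
  have hJQu : ∀ s ∈ jj (o2 P), s * u = u * s := by
    intro s hs
    rcases huJ s (hJQ hs) with h1 | h1
    · exact comm_of_conj h1
    · exfalso
      obtain ⟨s', hs'⟩ : ∃ s', s' = a * s * a⁻¹ := ⟨_, rfl⟩
      have hs'J : s' ∈ jj (o2 P) := hs' ▸ (mem_normalizer_iff.1 (hPJQ haP) s).1 hs
      have hs'Q : s' ∈ o2 P := ChoiceBase.jj_le _ hs'J
      have e1 : s' * u' * s'⁻¹ = v' * u' := by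
        calc s' * u' * s'⁻¹ = a * (s * u * s⁻¹) * a⁻¹ := by rw [hs', hu']; group
          _ = v' * u' := by rw [h1, hu', hv']; group
      rw [hw'] at e1
      have e2 : s' * (w * u) * s'⁻¹ = w * (s' * u * s'⁻¹) := by
        calc s' * (w * u) * s'⁻¹ = (s' * w) * u * s'⁻¹ := by group
          _ = w * (s' * u * s'⁻¹) := by rw [h.VcQ hs'Q hw]; group
      rw [e2, ← mul_assoc v', h.ev.comm_mem hv'V hw, mul_assoc w v'] at e1
      have e3 := mul_left_cancel e1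
      rcases huJ s' (hJQ hs'J) with h2 | h2
      · rw [h2, right_eq_mul] at e3
        apply hv1
        calc v = a⁻¹ * v' * a := by rw [hv']; group
          _ = 1 := by rw [e3]; group
      · rw [h2] at e3
        rw [← hv'] at hva
        exact hva (mul_right_cancel e3).symm
  have huZ : u ∈ zj (o2 P) := ChoiceBase.mem_zj.2 ⟨mem_jj_of_comm huQ (by rw [pow_two, hu2]) hJQu,
    by rw [pow_two, hu2], hJQu⟩
  rcases alt h huZ with h4 | h4
  · exact h4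
  exfalso
  obtain ⟨v₀, hv₀⟩ : ∃ v₀, v₀ = rr ε 0 (X k) := ⟨_, rfl⟩
  have hv₀V : v₀ ∈ zl (S : Subgroup G) P := hv₀ ▸ rr_mem h.ev _ _
  obtain ⟨q', hq', hqu⟩ := h4 v₀ hv₀V
  have hb : t k ∈ jj (S : Subgroup G) := hd.bas.tJ k
  obtain ⟨b, hbt⟩ : ∃ b, b = t k := ⟨_, rfl⟩
  rw [← hbt] at hb
  have hbA : Acts ε b (Equiv.swap (X k) (Y k)) := hbt ▸ hd.tA k
  obtain ⟨e, he, hbu⟩ : ∃ e, (e = 1 ∨ e = v) ∧ b⁻¹ * u * b = e * u := by
    have h5 := huJ b⁻¹ (inv_mem hb)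
    rw [inv_inv] at h5
    rcases h5 with h5 | h5
    · exact ⟨1, Or.inl rfl, by rw [h5, one_mul]⟩
    · exact ⟨v, Or.inr rfl, h5⟩
  have heV : e ∈ zl (S : Subgroup G) P := by
    rcases he with rfl | rfl
    · exact one_mem _
    · exact hvV
  have heb : b * e = e * b := by
    rcases he with rfl | rfl
    · rw [one_mul, mul_one]
    · exact (ChoiceBase.mem_zj.1 hvZ).2.2 b hb
  have hee : e * e = 1 := h.ev.sq_mem heV
  have hbu' : b * u * b⁻¹ = e * u := by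
    have h5 : u = e * (b * u * b⁻¹) := by
      calc u = b * (b⁻¹ * u * b) * b⁻¹ := by group
        _ = (b * e) * u * b⁻¹ := by rw [hbu]; group
        _ = e * (b * u * b⁻¹) := by rw [heb]; group
    calc b * u * b⁻¹ = (e * e) * (b * u * b⁻¹) := by rw [hee, one_mul]
      _ = e * (e * (b * u * b⁻¹)) := by group
      _ = e * u := by rw [← h5]
  have hv₀v₀ : v₀ * v₀ = 1 := h.ev.sq_mem hv₀V
  have hqe : q' * e = e * q' := h.VcQ hq' heV
  have hqv : q' * v₀ = v₀ * q' := h.VcQ hq' hv₀V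
  have hbv : b⁻¹ * v₀ * b = rr ε 0 (Y k) := by
    have h5 := rr_conj hbA.inv 0 (X k)
    rw [inv_inv, Equiv.swap_inv, Equiv.swap_apply_of_ne_of_ne (hd.X0 k).symm (hd.Y0 k).symm,
      Equiv.swap_apply_left] at h5
    rw [hv₀]
    exact h5
  have hqu' : q'⁻¹ * u * q' = v₀ * u := by
    have h5 : u = v₀ * (q'⁻¹ * u * q') := by
      calc u = q'⁻¹ * (q' * u * q'⁻¹) * q' := by group
        _ = q'⁻¹ * v₀ * u * q' := by rw [hqu]; group
        _ = q'⁻¹ * (v₀ * q') * q'⁻¹ * u * q' := by group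
        _ = q'⁻¹ * (q' * v₀) * q'⁻¹ * u * q' := by rw [hqv]
        _ = v₀ * (q'⁻¹ * u * q') := by group
    calc q'⁻¹ * u * q' = (v₀ * v₀) * (q'⁻¹ * u * q') := by rw [hv₀v₀, one_mul]
      _ = v₀ * (v₀ * (q'⁻¹ * u * q')) := by group
      _ = v₀ * u := by rw [← h5]
  have hc' : q'⁻¹ * b⁻¹ * q' * b ∈ jj (S : Subgroup G) := by
    refine mul_mem ?_ hb
    have h5 : (S : Subgroup G) ≤ normalizer ((jj (S : Subgroup G) : Subgroup G) : Set G) :=
      Subgroup.le_normalizer.trans (normalizer_le_of_cj (F := jj) jj_cj (S : Subgroup G))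
    have h6 := (mem_normalizer_iff.1 (h5 (inv_mem (h.QS hq'))) b⁻¹).1 (inv_mem hb)
    rwa [inv_inv] at h6
  have hwV : rr ε 0 (Y k) ∈ zl (S : Subgroup G) P := rr_mem h.ev _ _
  have hmain : (q'⁻¹ * b⁻¹ * q' * b) * u * (q'⁻¹ * b⁻¹ * q' * b)⁻¹ = rr ε (X k) (Y k) * u := by
    calc (q'⁻¹ * b⁻¹ * q' * b) * u * (q'⁻¹ * b⁻¹ * q' * b)⁻¹
        = q'⁻¹ * b⁻¹ * (q' * (b * u * b⁻¹) * q'⁻¹) * b * q' := by group
      _ = q'⁻¹ * b⁻¹ * ((q' * e) * u * q'⁻¹) * b * q' := by rw [hbu']; group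
      _ = q'⁻¹ * b⁻¹ * (e * (q' * u * q'⁻¹)) * b * q' := by rw [hqe]; group
      _ = q'⁻¹ * b⁻¹ * (e * (v₀ * u)) * b * q' := by rw [hqu]
      _ = q'⁻¹ * (b⁻¹ * e * b) * (b⁻¹ * v₀ * b) * (b⁻¹ * u * b) * q' := by group
      _ = q'⁻¹ * e * rr ε 0 (Y k) * (e * u) * q' := by
        have h5 : b⁻¹ * e * b = e := by rw [mul_assoc, ← heb]; group
        rw [h5, hbv, hbu]
      _ = q'⁻¹ * (e * (rr ε 0 (Y k) * e)) * u * q' := by group
      _ = q'⁻¹ * rr ε 0 (Y k) * u * q' := by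
        rw [h.ev.comm_mem hwV heV, ← mul_assoc e e, hee, one_mul]
      _ = q'⁻¹ * (rr ε 0 (Y k) * q') * q'⁻¹ * u * q' := by group
      _ = rr ε 0 (Y k) * (q'⁻¹ * u * q') := by rw [← h.VcQ hq' hwV]; group
      _ = rr ε 0 (Y k) * v₀ * u := by rw [hqu']; group
      _ = rr ε (X k) (Y k) * u := by
        rw [hv₀, h.ev.comm_mem hwV (rr_mem h.ev _ _), rr_symm h.ev 0 (X k), rr_add h.ev]
  rcases huJ _ hc' with h5 | h5
  · rw [hmain, mul_eq_right] at h5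
    exact rr_ne_one h.ev h.three (hd.ne k) h5
  · rw [hmain, hv] at h5
    exact hki (hd.bas.d_inj (mul_right_cancel h5))

theorem syl_bau (S : Sylow 2 G) {C : Subgroup G} (hC : bau (S : Subgroup G) ≤ C)
    (hcZ : C ≤ centralizer (zj (S : Subgroup G) : Set G)) :
    ChoiceSit.Syl (bau (S : Subgroup G)) C := by
  refine ⟨hC, S.isPGroup'.to_le (ChoiceBase.bau_le _), fun R hRC hR hBR => ?_⟩
  have h1 := LemmaK.Main.bau_eq S hR hBR
  have h2 := LemmaK.Main.zj_eq S hR hBR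
  rw [← h1]
  refine le_antisymm (fun x hx => ChoiceBase.mem_bau.2 ⟨hx, fun z hz => ?_⟩) (ChoiceBase.bau_le R)
  rw [h2] at hz
  exact mem_centralizer_iff.1 (hcZ (hRC hx)) z hz

/-- **(5)** `N_G(J(S)) ≤ N_G(V)`. -/
theorem jj_le (h : Hyp S P ε) (h3 : 3 ≤ m) :
    normalizer ((jj (S : Subgroup G) : Subgroup G) : Set G) ≤
      normalizer (zl (S : Subgroup G) P : Set G) := by
  intro g hg
  set J := jj (S : Subgroup G) with hJ
  set C := normalizer (J : Set G) ⊓ centralizer (zj (S : Subgroup G) : Set G) with hCdef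
  have hBN : bau (S : Subgroup G) ≤ normalizer (J : Set G) :=
    (ChoiceBase.bau_le _).trans (Subgroup.le_normalizer.trans
      (normalizer_le_of_cj (F := jj) jj_cj (S : Subgroup G)))
  have hBC : bau (S : Subgroup G) ≤ C := le_inf hBN fun b hb =>
    mem_centralizer_iff.2 fun z hz => (ChoiceBase.mem_bau.1 hb).2 z hz
  have hs := syl_bau S hBC inf_le_right
  have hgZ := cj_eq_of_mem_normalizer (jj_zj hg)
  have hgC : cj g C = C := by
    rw [hCdef, cj_inf, cj_centralizer, hgZ, cj_normalizer, cj_eq_of_mem_normalizer hg]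
  have hs' : ChoiceSit.Syl (cj g (bau (S : Subgroup G))) C := by
    refine ⟨?_, isPGroup_cj g hs.2.1, ?_⟩
    · rw [← hgC]; exact cj_mono g hs.1
    · intro R hR hR2 hQR
      have h1 : cj g⁻¹ R = bau (S : Subgroup G) := by
        refine hs.2.2 _ ?_ (isPGroup_cj _ hR2) ?_
        · rw [cj_le_iff, inv_inv, hgC]; exact hR
        · rw [← cj_le_iff]; exact hQR
      rw [← h1, cj_cj_inv]
  obtain ⟨c, hc, hcc⟩ := ChoiceSit.syl_conj hs' hs
  rw [cj_cj] at hcc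
  have h1 := bau_le h h3 (mem_normalizer_iff_cj.2 hcc)
  have h2 := jj_cent h h3 hc.1 fun z hz => (mem_centralizer_iff.1 hc.2 z hz).symm
  have h4 := mul_mem (inv_mem h2) h1
  rwa [inv_mul_cancel_left] at h4

end Cfsg.Agent.Omega.NSix.CaseJ.Norm
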