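import Cfsg.Agent.Omega.S5.Pair
import Cfsg.Agent.Omega.S5.Of

/-!
# From the even-subset module (`EvenSet`) to `FFThm.SymK` with one summand

`co ε v` : the even representative of the coordinates of `v`; `symK` : `FFThm.SymK T P V ⊥ 1 m`;
`actsSym_iff` : the actions agree.
-/

set_option autoImplicit false

namespace Cfsg.Agent.Omega.NSix.CaseJ.OfEven

open Subgroup Cfsg.Agent.Omega.S5.Def Cfsg.Agent.Omega.S5.Syl Cfsg.Agent.Omega.S5.Pair
open Cfsg.Agent.Omega.S5.Of (hat hat_add hat_comp sum_hat hat_eq_zero_iff cast_odd)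
open Cfsg.Agent.Omega.FFThm (ActsSym SymK NoOver Off)

universe u

variable {G : Type u} [Group G] {m : ℕ} {V P T : Subgroup G} {ε : (Fin (2 ^ m + 1) → ZMod 2) → G}

open Classical in
/-- the even representative of the coordinates of `v` -/
noncomputable def co (ε : (Fin (2 ^ m + 1) → ZMod 2) → G) (v : G) : Fin (2 ^ m + 1) → ZMod 2 :=
  if h : ∃ x, ε x = v then hat h.choose else 0

theorem co_eps (h : EvenSet (2 ^ m + 1) V P ε) (hm : 1 ≤ m) (x : Fin (2 ^ m + 1) → ZMod 2) :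
    co ε (ε x) = hat x := by
  have hex : ∃ y, ε y = ε x := ⟨x, rfl⟩
  rw [co, dif_pos hex]
  have h1 := hex.choose_spec
  have h2 : hat (1 : Fin (2 ^ m + 1) → ZMod 2) = 0 := (hat_eq_zero_iff hm _).2 (Or.inr rfl)
  rcases h.eq_iff.1 h1 with h3 | h3
  · rw [h3]
  · rw [h3, hat_add, h2, add_zero]

theorem eps_hat (h : EvenSet (2 ^ m + 1) V P ε) (x : Fin (2 ^ m + 1) → ZMod 2) :
    ε (hat x) = ε x := by
  have h01 : ∀ a : ZMod 2, a = 0 ∨ a = 1 := by decide
  rw [h.eq_iff]
  rcases h01 (∑ j, x j) with h1 | h1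
  · left
    funext i
    rw [hat, h1, add_zero]
  · right
    funext i
    rw [hat, h1, Pi.add_apply, Pi.one_apply]

theorem eps_co (h : EvenSet (2 ^ m + 1) V P ε) (hm : 1 ≤ m) {v : G} (hv : v ∈ V) :
    ε (co ε v) = v := by
  obtain ⟨x, rfl⟩ := h.surj v hv
  rw [co_eps h hm, eps_hat h]

theorem hat_of_sum {x : Fin (2 ^ m + 1) → ZMod 2} (hx : ∑ i, x i = 0) : hat x = x := by
  funext i
  rw [hat, hx, add_zero]

/-- the coordinates -/
noncomputable def ee (ε : (Fin (2 ^ m + 1) → ZMod 2) → G) (v : G) (_ : Fin 1) :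
    Fin (2 ^ m + 1) → ZMod 2 := co ε v

theorem actsSym_iff (h : EvenSet (2 ^ m + 1) V P ε) (hm : 1 ≤ m) {g : G}
    (hg : ∀ v ∈ V, g * v * g⁻¹ ∈ V) {σ : Equiv.Perm (Fin 1)}
    {τ : Fin 1 → Equiv.Perm (Fin (2 ^ m + 1))} :
    ActsSym (ee ε) V g σ τ ↔ Acts ε g (τ 0) := by
  have key : ∀ x : Fin (2 ^ m + 1) → ZMod 2, (∀ y, co ε (g * ε x * g⁻¹) (τ 0 y) = co ε (ε x) y) ↔
      g * ε x * g⁻¹ = ε (x ∘ (τ 0).symm) := by
    intro x
    obtain ⟨z, hz⟩ := h.surj _ (hg _ (h.mem x))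
    rw [← hz, co_eps h hm, co_eps h hm]
    constructor
    · intro h1
      have h2 : hat z = hat (x ∘ (τ 0).symm) := by
        rw [hat_comp]
        funext y
        have := h1 ((τ 0).symm y)
        rw [Equiv.apply_symm_apply] at this
        exact this
      rw [← eps_hat h z, h2, eps_hat h]
    · intro h1 y
      have h2 : hat z = hat (x ∘ (τ 0).symm) := by
        rw [← co_eps h hm, ← co_eps h hm, h1]
      rw [h2, hat_comp]
      simp
  constructor
  · intro h1 x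
    exact (key x).1 fun y => h1 _ (h.mem x) 0 y
  · intro h1 v hv i y
    obtain ⟨x, rfl⟩ := h.surj v hv
    have hi : i = 0 := Subsingleton.elim _ _
    subst hi
    exact (key x).2 (h1 x) y

/-- **The even-subset module as a module for `FFThm.SymK`.** -/
noncomputable def symK (h : EvenSet (2 ^ m + 1) V P ε) (hm : 1 ≤ m) (hTP : T ≤ P) (h0 : Fix0 ε T)
    (hoff : ∀ A : Subgroup G, A ≤ T → Off V A → Side A ε) : SymK T P V ⊥ 1 m where
  e := ee ε
  mul := by
    intro v hv w hw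
    obtain ⟨x, rfl⟩ := h.surj v hv
    obtain ⟨y, rfl⟩ := h.surj w hw
    funext i
    change co ε (ε x * ε y) = co ε (ε x) + co ε (ε y)
    rw [← h.add, co_eps h hm, co_eps h hm, co_eps h hm, hat_add]
  even := by
    intro v hv i
    obtain ⟨x, rfl⟩ := h.surj v hv
    change ∑ y, co ε (ε x) y = 0
    rw [co_eps h hm]
    exact sum_hat hm x
  surj := by
    intro y hy
    refine ⟨ε (y 0), h.mem _, ?_⟩
    funext i
    have hi : i = 0 := Subsingleton.elim _ _
    subst hi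
    change co ε (ε (y 0)) = y 0
    rw [co_eps h hm, hat_of_sum (hy 0)]
  ker := by
    intro v hv
    obtain ⟨x, rfl⟩ := h.surj v hv
    rw [mem_bot, h.ker, ← hat_eq_zero_iff hm, ← co_eps h hm]
    constructor
    · intro h1
      exact congrFun h1 0
    · intro h1
      funext i
      exact h1
  lift := by
    intro τ
    obtain ⟨g, hg, hgτ⟩ := h.full (τ 0)
    refine ⟨g, hg, (actsSym_iff h hm fun v hv => (mem_normalizer_iff.1 (h.le_normalizer hg) v).1 hv).2 hgτ, ?_⟩
    intro d hd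
    rw [mem_bot.1 hd, mul_one, one_mul]
  perm := by
    intro g hg
    obtain ⟨σ, hσ⟩ := h.perm g hg
    exact ⟨1, fun _ => σ,
      (actsSym_iff h hm fun v hv => (mem_normalizer_iff.1 (h.le_normalizer hg) v).1 hv).2 hσ⟩
  trans := by
    intro i j
    refine ⟨1, one_mem _, 1, fun _ => 1, (actsSym_iff h hm fun v hv => by simpa using hv).2 Acts.one, ?_⟩
    exact Subsingleton.elim _ _
  fix0 := by
    intro t ht σ τ hτ i
    have hi : i = 0 := Subsingleton.elim _ _
    subst hi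
    exact h0 t ht _ ((actsSym_iff h hm fun v hv =>
      (mem_normalizer_iff.1 (h.le_normalizer (hTP ht)) v).1 hv).1 hτ)
  gen := by
    intro K hK hK' g hg
    obtain ⟨σ, hσ⟩ := h.perm g hg
    refine hK' g hg (fun _ => σ)
      ((actsSym_iff h hm fun v hv => (mem_normalizer_iff.1 (h.le_normalizer hg) v).1 hv).2 hσ) ?_
    intro d hd
    rw [mem_bot.1 hd, mul_one, one_mul]
  off := by
    intro A hA hoA
    refine ⟨fun a _ d hd => by rw [mem_bot.1 hd, mul_one, one_mul], fun a ha => ?_⟩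
    have hn : ∀ b ∈ A, ∀ v ∈ V, b * v * b⁻¹ ∈ V := fun b hb v hv =>
      (mem_normalizer_iff.1 (h.le_normalizer (hTP (hA hb))) v).1 hv
    obtain ⟨τ, hτ, h1⟩ := hoff A hA hoA a ha
    refine ⟨fun _ => τ, (actsSym_iff h hm (hn a ha)).2 hτ, fun i x hx => ?_⟩
    obtain ⟨h2, b, hb, hb'⟩ := h1 x hx
    refine ⟨h2, b, hb, (actsSym_iff h hm (hn b hb)).2 ?_⟩
    have hi : i = 0 := Subsingleton.elim _ _
    subst hi
    rw [Function.update_self]
    exact hb'

end Cfsg.Agent.Omega.NSix.CaseJ.OfEven
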