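import Cfsg.Agent.Omega.NSix.CaseJ.Fus
import Cfsg.Agent.Omega.NSix.CaseJ.LemN
import Cfsg.Agent.Omega.OM.BlkGen

/-!
# OMEGA N6, case `J(S) ≰ O₂(P)`: FF-blocks over `B = bau S` lie in `N_G(V)`

`hp : PB (bau S) L W W1 W0 q` is an FF-block over `B` (arbitrary `q`, arbitrary extension of the natural module by
a trivial one), some involution `d i₀` of a pair commutes with `L`:

* `W_le_Q` : `W ≤ O₂(P)`;
* `W_le_V_two` (`q = 2`, LEMMA Q), `W_le_V_big` (`q > 2`, exact offenders);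
* `q_eq_two`;
* `L_le` : `L ≤ N_G(V)` (LEMMA K and LEMMA N).
-/

set_option autoImplicit false
set_option linter.unusedSectionVars false

namespace Cfsg.Agent.Omega.NSix.CaseJ.PBlock

open Subgroup Cfsg Cfsg.Agent.PLocal.ThompsonJ Cfsg.Agent.ZN Cfsg.Agent.ZN.ChoiceBase
open Cfsg.Agent.ZN.ChoiceSit Cfsg.Agent.PLocal.ElemAbSup
open Cfsg.Agent.Omega.MinPar
open Cfsg.Agent.Omega.S5.Def Cfsg.Agent.Omega.S5.Syl Cfsg.Agent.Omega.S5.Pair
open Cfsg.Agent.Omega.NSix.Base Cfsg.Agent.Omega.NSix.Basic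
open Cfsg.Agent.Omega.SQ1.Bau (elem_comm elem_sq mem_sup_comm card_sup_comm Mv)
open Cfsg.Agent.Omega.LemmaK (Block WeakNormal)
open Cfsg.Agent.Omega.OM (PB)
open Cfsg.Agent.Omega.NSix.CaseJ.Base Cfsg.Agent.Omega.NSix.CaseJ.Exact
open Cfsg.Agent.Omega.NSix.CaseJ.LemQ Cfsg.Agent.Omega.NSix.CaseJ.Blk Cfsg.Agent.Omega.NSix.CaseJ.Norm
open Cfsg.Agent.Omega.NSix.CaseJ.Fus

universe u

variable {G : Type u} [Group G] [Finite G] {S : Sylow 2 G} {P : Subgroup G} {m : ℕ}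
  {ε : (Fin (2 ^ m + 1) → ZMod 2) → G} {ι : Type} {X Y : ι → Fin (2 ^ m + 1)} {N : ι → Subgroup G}
  {t r : ι → G} {L W W1 W0 : Subgroup G} {q : ℕ}

theorem weak (S : Sylow 2 G) : WeakNormal 2 (bau (S : Subgroup G)) := fun _ hR hBR =>
  LemmaK.Main.le_normalizer_bau S hR hBR

/-! ### General facts -/

theorem W1_le (hp : PB (bau (S : Subgroup G)) L W W1 W0 q) : W1 ≤ zj (S : Subgroup G) := by
  intro n hn
  rw [← ChoiceBase.zc_bau, ChoiceBase.mem_zc]
  have h1 := hp.N1N hn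
  exact ⟨hp.NB h1, elem_sq hp.el n h1, fun b hb => hp.N1c b hb n hn⟩

theorem W1_le_V (h : Hyp S P ε) (hp : PB (bau (S : Subgroup G)) L W W1 W0 q) :
    W1 ≤ zl (S : Subgroup G) P := (W1_le hp).trans (LemQ.zj_le h)

theorem W0_le_V (h : Hyp S P ε) (hp : PB (bau (S : Subgroup G)) L W W1 W0 q) :
    W0 ≤ zl (S : Subgroup G) P := hp.N01.trans (W1_le_V h hp)

/-- The elements of `W1` commuting with `L` lie in `W0`. -/
theorem mem_W0 (hp : PB (bau (S : Subgroup G)) L W W1 W0 q) {z : G} (hz : z ∈ W1)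
    (hc : ∀ l ∈ L, l * z = z * l) : z ∈ W0 := by
  obtain ⟨l, hl, hm⟩ := hp.mv
  have e : l * z * l⁻¹ = z := by rw [hc l hl]; group
  have := hp.opp l hl hm z hz (by rw [e]; exact hz)
  rwa [e] at this

/-- The block of a pair as a `PB`. -/
theorem pb_i (hd : Dat S P ε X Y N t r) {i : ι} {L : Subgroup G} (k : Bk S P ε X Y r i L) :
    PB (bau (S : Subgroup G)) L (N i) (zpowers (rr ε (X i) (Y i))) ⊥ 2 :=
  OM.FBS.pb hd.bas (weak S) k

theorem comm_i (hd : Dat S P ε X Y N t r) {i : ι} {L : Subgroup G} (k : Bk S P ε X Y r i L) :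
    ⁅N i, L⁆ = N i := OM.FBS.comm_eq hd.bas (weak S) k

/-- **LEMMA K** for two FF-blocks over conjugates of `B` commuting with a common involution. -/
theorem comm_pb (h : Hyp S P ε) {L' W' W1' W0' : Subgroup G} {q' : ℕ}
    (hp : PB (bau (S : Subgroup G)) L W W1 W0 q) (hp' : PB (bau (S : Subgroup G)) L' W' W1' W0' q')
    {x y w : G} (hw1 : w ≠ 1) (hw2 : w * w = 1)
    (hx : ∀ l ∈ L, (x * l * x⁻¹) * w = w * (x * l * x⁻¹))
    (hy : ∀ l ∈ L', (y * l * y⁻¹) * w = w * (y * l * y⁻¹)) {a b : G}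
    (ha : a ∈ (⁅W, L⁆ : Subgroup G)) (hb : b ∈ (⁅W', L'⁆ : Subgroup G)) :
    (x * a * x⁻¹) * (y * b * y⁻¹) = (y * b * y⁻¹) * (x * a * x⁻¹) := by
  have b1 := OM.BlkGen.block_conj (hp.block (weak S)) x
  have b2 := OM.BlkGen.block_conj (hp'.block (weak S)) y
  have key : ∀ (x : G) (L : Subgroup G), (∀ l ∈ L, (x * l * x⁻¹) * w = w * (x * l * x⁻¹)) →
      cj x L ≤ normalizer (zpowers w : Set G) := by
    intro x L hx
    rintro _ ⟨l, hl, rfl⟩
    refine mem_normalizer_of_cj_le ?_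
    rintro _ ⟨v, hv, rfl⟩
    have h1 := hx l hl
    change (x * l * x⁻¹) * v * (x * l * x⁻¹)⁻¹ ∈ _
    rcases mem_zp hw2 hv with rfl | rfl
    · have e : (x * l * x⁻¹) * 1 * (x * l * x⁻¹)⁻¹ = 1 := by group
      rw [e]; exact one_mem _
    · rw [h1, mul_inv_cancel_right]; exact mem_zpowers _
  have h1 := b1.commutator_eq_bot_of_local h.hG b2 (U := zpowers w)
    (isPGroup_of_isElementaryAbelian (zp_elem hw2)) (by rwa [Ne, zpowers_eq_bot]) (key x L hx)
    (key y L' hy)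
  rw [commutator_eq_bot_iff_le_centralizer] at h1
  exact (mem_centralizer_iff.1 (h1 ⟨a, ha, rfl⟩) _ ⟨b, hb, rfl⟩).symm

/-! ### Step 1: `W ≤ O₂(P)` -/

theorem W_le_Q (h : Hyp S P ε) (hd : Dat S P ε X Y N t r) (hp : PB (bau (S : Subgroup G)) L W W1 W0 q)
    {i₀ : ι} (hc : ∀ l ∈ L, l * rr ε (X i₀) (Y i₀) = rr ε (X i₀) (Y i₀) * l) : W ≤ o2 P := by
  choose Li hLi using fun i => hd.bas.exists_blk i
  intro w hw
  have hwB := hp.NB hw
  refine h.cS (ChoiceBase.bau_le _ hwB) ?_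
  have key : ∀ i, ∀ v ∈ N i, w * v = v * w := by
    intro i v hv
    by_cases hi : i = i₀
    · subst hi
      by_contra hne
      have hvV := hd.bas.NV i hv
      have h1 : w * v * w⁻¹ = rr ε (X i) (Y i) * v := by
        rcases bau_N hd hwB hv with h1 | h1
        · exact absurd (comm_of_conj h1) hne
        · exact h1
      have h2 : v * w * v⁻¹ * w⁻¹ = rr ε (X i) (Y i) := by
        have h3 : w * v⁻¹ * w⁻¹ = v⁻¹ * rr ε (X i) (Y i) := by
          have h4 : w * v⁻¹ * w⁻¹ = (w * v * w⁻¹)⁻¹ := by group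
          rw [h4, h1, mul_inv_rev, rr_inv h.ev]
        calc v * w * v⁻¹ * w⁻¹ = v * (w * v⁻¹ * w⁻¹) := by group
          _ = rr ε (X i) (Y i) := by rw [h3]; group
      have hvB := VB h hvV
      have h3 := hp.quad v hvB w hw
      rw [h2] at h3
      have h4 : v * w * v⁻¹ * w⁻¹ ∈ W0 := by rw [h2]; exact mem_W0 hp h3 hc
      have h5 := hp.cent v hvB ⟨w, hw, fun e => hne e.symm⟩ w hw h4
      exact hne (hp.N1c v hvB w h5).symm
    · obtain ⟨u, hu, n, hn, rfl⟩ := hp.exists_V hw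
      have hvV := hd.bas.NV i hv
      have h1 := comm_pb h hp (pb_i hd (hLi i)) (x := 1) (y := 1)
        (rr_ne_one h.ev h.three (hd.ne i₀)) (rr_sq h.ev _ _)
        (fun l hl => by
          have := hc l hl
          rw [inv_one, mul_one, one_mul]; exact this)
        (fun l hl => by
          have := LemmaK.OfIn.cent_d (hLi i) hd.bas hi l hl
          rw [inv_one, mul_one, one_mul]; exact this) hu
        (by rw [comm_i hd (hLi i)]; exact hv)
      simp only [inv_one, mul_one, one_mul] at h1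
      have h2 : n * v = v * n := h.ev.comm_mem (W0_le_V h hp hn) hvV
      calc u * n * v = u * (v * n) := by rw [mul_assoc, h2]
        _ = v * u * n := by rw [← mul_assoc, h1]
        _ = v * (u * n) := mul_assoc _ _ _
  have h1 : (⨆ i, N i) ≤ centralizer ({w} : Set G) := iSup_le fun i v hv =>
    mem_centralizer_singleton_iff.2 (key i v hv).symm
  intro v hv
  exact (mem_centralizer_singleton_iff.1 (h1 (V_le_iSup h hd hv))).symm

/-! ### Step 2, `q = 2` -/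

theorem W_le_V_two (h : Hyp S P ε) (hp : PB (bau (S : Subgroup G)) L W W1 W0 2) (hWQ : W ≤ o2 P) :
    W ≤ zl (S : Subgroup G) P := by
  intro u hu
  by_cases hu1 : u ∈ W1
  · exact W1_le_V h hp hu1
  have huu : u * u = 1 := by
    have := elem_sq hp.el u hu
    rwa [pow_two] at this
  by_cases hs : ∀ s ∈ o2 P, s * u = u * s
  · exact oz h (hWQ hu) huu hs
  push Not at hs
  obtain ⟨s₀, hs₀, hne⟩ := hs
  have hB : ∀ {s : G}, s ∈ o2 P → s ∈ bau (S : Subgroup G) := fun hs => QB h hs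
  have hzW := hp.quad s₀ (hB hs₀) u hu
  refine LemQ.mem h (v := s₀ * u * s₀⁻¹ * u⁻¹) (hWQ hu) huu (W1_le_V h hp hzW) ?_ fun s hs => ?_
  · intro e
    apply hne
    calc s₀ * u = (s₀ * u * s₀⁻¹ * u⁻¹) * u * s₀ := by group
      _ = u * s₀ := by rw [e, one_mul]
  · by_cases hsW : ∀ v ∈ W, s * v = v * s
    · left; rw [hsW u hu]; group
    · right
      have h2 : (bau (S : Subgroup G) ⊓ centralizer (W : Set G)).relIndex (bau (S : Subgroup G)) = 2 := by
        have h3 := CosetAct.Hyp.card_mul_relIndex' (H := bau (S : Subgroup G) ⊓ centralizer (W : Set G))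
          (K := bau (S : Subgroup G)) inf_le_left
        rw [hp.cardB] at h3
        exact Nat.eq_of_mul_eq_mul_left Nat.card_pos h3
      have hmem : ∀ {s : G}, (hs : s ∈ bau (S : Subgroup G)) →
          ((⟨s, hs⟩ : bau (S : Subgroup G)) ∈
            (bau (S : Subgroup G) ⊓ centralizer (W : Set G)).subgroupOf (bau (S : Subgroup G)) ↔
            ∀ v ∈ W, s * v = v * s) := by
        intro s hs
        rw [mem_subgroupOf, mem_inf, mem_centralizer_iff]
        exact ⟨fun h0 v hv => (h0.2 v hv).symm, fun h0 => ⟨hs, fun v hv => (h0 v hv).symm⟩⟩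
      have h3 : (⟨s₀⁻¹, inv_mem (hB hs₀)⟩ * ⟨s, hB hs⟩ : bau (S : Subgroup G)) ∈
          (bau (S : Subgroup G) ⊓ centralizer (W : Set G)).subgroupOf (bau (S : Subgroup G)) := by
        rw [Subgroup.mul_mem_iff_of_index_two h2]
        constructor
        · intro h0
          exfalso
          have h4 := (hmem _).1 h0 u hu
          apply hne
          calc s₀ * u = s₀ * (u * s₀⁻¹) * s₀ := by group
            _ = s₀ * (s₀⁻¹ * u) * s₀ := by rw [h4]
            _ = u * s₀ := by group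
        · intro h0
          exact absurd ((hmem _).1 h0) hsW
      have h4 := (hmem (mul_mem (inv_mem (hB hs₀)) (hB hs))).1 h3 u hu
      calc s * u * s⁻¹ = s₀ * ((s₀⁻¹ * s) * u) * (s₀⁻¹ * s)⁻¹ * s₀⁻¹ := by group
        _ = s₀ * (u * (s₀⁻¹ * s)) * (s₀⁻¹ * s)⁻¹ * s₀⁻¹ := by rw [h4]
        _ = s₀ * u * s₀⁻¹ * u⁻¹ * u := by group

/-! ### Step 3: `q = 2` -/

theorem q_eq_two (h : Hyp S P ε) (hd : Dat S P ε X Y N t r)
    (hp : PB (bau (S : Subgroup G)) L W W1 W0 q) (hWV : W ≤ zl (S : Subgroup G) P) : q = 2 := by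
  have hex : ∃ i, ∃ v ∈ W, t i * v ≠ v * t i := by
    by_contra hcon
    push Not at hcon
    obtain ⟨b, hb, v, hv, hne⟩ := hp.exists_b
    have h1 : SQ1.BauS.In.EE t (o2 P) ≤ centralizer ({v} : Set G) := by
      refine sup_le ?_ fun x hx => ?_
      · rw [closure_le]
        rintro _ ⟨i, rfl⟩
        exact mem_centralizer_singleton_iff.2 (hcon i v hv)
      · exact mem_centralizer_singleton_iff.2 (h.VcQ hx (hWV hv))
    exact hne (mem_centralizer_singleton_iff.1 (h1 (hd.bas.bau_EE hb)))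
  obtain ⟨i, v, hv, hne⟩ := hex
  have hti := hd.bas.t_bau i
  have hv1 : v ∉ W1 := fun h1 => hne (hp.N1c _ hti v h1)
  have hmv : ∀ y ∈ W, y ∉ W1 → t i * y * (t i)⁻¹ = rr ε (X i) (Y i) * y := by
    intro y hy hy1
    rcases hd.bas.t_comm i y (hWV hy) with h1 | h1
    · exfalso
      apply hy1
      refine hp.cent (t i) hti ⟨v, hv, hne⟩ y hy ?_
      rw [h1, mul_inv_cancel]
      exact one_mem _
    · exact h1
  have h1 : Nat.card W ≤ 2 * Nat.card W1 := by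
    refine card_le_two (c := v) fun y hy hy1 => ?_
    refine hp.cent (t i) hti ⟨v, hv, hne⟩ _ (mul_mem (inv_mem hv) hy) ?_
    have e : t i * (v⁻¹ * y) * (t i)⁻¹ * (v⁻¹ * y)⁻¹ =
        (t i * v * (t i)⁻¹)⁻¹ * (t i * y * (t i)⁻¹) * (v⁻¹ * y)⁻¹ := by group
    rw [e, hmv v hv hv1, hmv y hy hy1]
    have e2 : (rr ε (X i) (Y i) * v)⁻¹ * (rr ε (X i) (Y i) * y) * (v⁻¹ * y)⁻¹ = 1 := by group
    rw [e2]
    exact one_mem _
  have h2 := hp.card
  rw [h2, mul_comm] at h1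
  have h3 := Nat.le_of_mul_le_mul_right h1 Nat.card_pos
  have h4 := hp.one
  omega

/-! ### Step 4: `L ≤ N_G(V)` -/

theorem card_HH_pb (hp : PB (bau (S : Subgroup G)) L W W1 W0 2) :
    Nat.card (zj (S : Subgroup G)) ≤ 2 * Nat.card (HH S L) := by
  by_cases hle : zj (S : Subgroup G) ≤ HH S L
  · have := Subgroup.card_le_of_le hle
    omega
  obtain ⟨c, hcZ, hcH⟩ := Set.not_subset.1 hle
  replace hcZ : c ∈ zj (S : Subgroup G) := hcZ
  have hsplit : ∀ z ∈ zj (S : Subgroup G), z ∉ HH S L → ∃ z' ∈ HH S L, ∃ n ∈ W1, n ∉ W0 ∧ z = z' * n := by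
    intro z hz hzH
    rw [← ChoiceBase.zc_bau] at hz
    obtain ⟨z', hz', hz'L, n, hn, e⟩ := hp.Z_split hz
    have hz'H : z' ∈ HH S L := mem_HH.2 ⟨by rw [← ChoiceBase.zc_bau]; exact hz', hz'L⟩
    refine ⟨z', hz'H, n, hn, fun hn0 => hzH ?_, e⟩
    rw [e]
    exact mul_mem hz'H (mem_HH.2 ⟨W1_le hp hn, fun l hl => hp.N0c l hl n hn0⟩)
  refine card_le_two (c := c) fun y hy hyH => ?_
  obtain ⟨c', hc', n, hn, hn0, ec⟩ := hsplit c hcZ hcH
  obtain ⟨y', hy', n', hn', hn0', ey⟩ := hsplit y hy hyH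
  -- `n⁻¹ n' ∈ W0`
  have h1 : n⁻¹ * n' ∈ W0 := by
    by_contra hnn
    have h2 : 2 * Nat.card W0 < Nat.card W1 ∨ n⁻¹ * n' ∈ W0 := by
      right
      have h3 : W0.relIndex W1 = 2 := by
        have h4 := CosetAct.Hyp.card_mul_relIndex' hp.N01
        rw [hp.card1] at h4
        exact Nat.eq_of_mul_eq_mul_left Nat.card_pos h4
      have h4 : (⟨n⁻¹, inv_mem hn⟩ * ⟨n', hn'⟩ : W1) ∈ W0.subgroupOf W1 := by
        rw [Subgroup.mul_mem_iff_of_index_two h3, mem_subgroupOf, mem_subgroupOf]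
        exact ⟨fun h0 => absurd ((inv_mem_iff).1 h0) hn0, fun h0 => absurd h0 hn0'⟩
      exact h4
    rcases h2 with h2 | h2
    · rw [hp.card1] at h2; omega
    · exact hnn h2
  have hnZ := W1_le hp hn
  have e : c⁻¹ * y = (c'⁻¹ * y') * (n⁻¹ * n') := by
    rw [ec, ey, mul_inv_rev]
    have h2 := zj_comm (inv_mem hnZ) (mul_mem (inv_mem (mem_HH.1 hc').1) (mem_HH.1 hy').1)
    calc n⁻¹ * c'⁻¹ * (y' * n') = (n⁻¹ * (c'⁻¹ * y')) * n' := by group
      _ = ((c'⁻¹ * y') * n⁻¹) * n' := by rw [h2]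
      _ = _ := by group
  rw [e]
  exact mul_mem (mul_mem (inv_mem hc') hy') (mem_HH.2 ⟨W1_le hp (hp.N01 h1), fun l hl => hp.N0c l hl _ h1⟩)

theorem L_le_of_V (h : Hyp S P ε) (h3 : 3 ≤ m) (hd : Dat S P ε X Y N t r)
    (hp : PB (bau (S : Subgroup G)) L W W1 W0 2) (hWV : W ≤ zl (S : Subgroup G) P) :
    L ≤ normalizer (zl (S : Subgroup G) P : Set G) := by
  choose Li hLi using fun i => hd.bas.exists_blk i
  intro g hg
  -- `R = C_B(W)`
  have hR : ∀ x ∈ bau (S : Subgroup G), (∀ v ∈ W, x * v = v * x) → ∀ l ∈ L,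
      l * x * l⁻¹ ∈ bau (S : Subgroup G) ∧ ∀ v ∈ W, (l * x * l⁻¹) * v = v * (l * x * l⁻¹) := by
    intro x hx hxW l hl
    refine ⟨hp.cor l hl x hx hxW, fun v hv => ?_⟩
    have h1 : l⁻¹ * v * l ∈ W := by
      have := hp.Nn l⁻¹ (inv_mem hl) v hv
      rwa [inv_inv] at this
    have h2 := hxW _ h1
    calc l * x * l⁻¹ * v = l * (x * (l⁻¹ * v * l)) * l⁻¹ := by group
      _ = l * ((l⁻¹ * v * l) * x) * l⁻¹ := by rw [h2]
      _ = v * (l * x * l⁻¹) := by group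
  have hVR : ∀ v ∈ zl (S : Subgroup G) P, ∀ w ∈ W, v * w = w * v := fun v hv w hw =>
    h.ev.comm_mem hv (hWV hw)
  have hVgB : ∀ v ∈ zl (S : Subgroup G) P, g * v * g⁻¹ ∈ bau (S : Subgroup G) := fun v hv =>
    (hR v (VB h hv) (hVR v hv) g hg).1
  -- the modules commute
  have hcomm : ∀ a ∈ zl (S : Subgroup G) P, ∀ b ∈ zl (S : Subgroup G) P,
      (1 * a * 1⁻¹) * (g * b * g⁻¹) = (g * b * g⁻¹) * (1 * a * 1⁻¹) := by
    intro a ha b hb
    refine comm_all h hd (fun i j a ha b hb => ?_) ha hb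
    obtain ⟨y, ⟨⟨hy1, hy2⟩, hy3⟩, hy⟩ := exists_three h hd h3 (A := HH S L) (B := HH S (Li i))
      (C := HH S (Li j)) inf_le_left inf_le_left inf_le_left (card_HH_pb hp) (card_HH h hd (hLi i))
      (card_HH h hd (hLi j))
    have hy1' := mem_HH.1 hy1
    have hy2' := mem_HH.1 hy2
    have hy3' := mem_HH.1 hy3
    have hyy : y * y = 1 := h.ev.sq_mem (LemQ.zj_le h hy1'.1)
    refine comm_conj h hd (hLi i) (hLi j) hy hyy (fun l hl => ?_) (fun l hl => ?_) ha hb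
    · have := hy2'.2 l hl
      calc 1 * l * 1⁻¹ * y = l * y := by group
        _ = y * l := this
        _ = y * (1 * l * 1⁻¹) := by group
    · have h1 := hy3'.2 l hl
      have h2 := hy1'.2 g hg
      have h4 : g⁻¹ * y = y * g⁻¹ := by
        calc g⁻¹ * y = g⁻¹ * (y * g) * g⁻¹ := by group
          _ = g⁻¹ * (g * y) * g⁻¹ := by rw [h2]
          _ = y * g⁻¹ := by group
      calc g * l * g⁻¹ * y = g * l * (g⁻¹ * y) := by group
        _ = g * (l * y) * g⁻¹ := by rw [h4]; group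
        _ = (g * y) * l * g⁻¹ := by rw [h1]; group
        _ = y * (g * l * g⁻¹) := by rw [h2]; group
  refine LemN.main h (fun v hv => ?_) fun s hs v hv => ?_
  · refine h.cS (ChoiceBase.bau_le _ (hVgB v hv)) fun w hw => ?_
    have h1 := hcomm w hw v hv
    have e : (1 : G) * w * 1⁻¹ = w := by group
    rw [e] at h1
    exact h1.symm
  · -- `Q ≤ R^g`
    have hsW : ∀ w ∈ W, s * w = w * s := fun w hw => h.VcQ hs (hWV hw)
    have h1 := hR s (QB h hs) hsW g⁻¹ (inv_mem hg)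
    rw [inv_inv] at h1
    have h2 : g⁻¹ * s * g ∈ P := h.SP (ChoiceBase.bau_le _ h1.1)
    have h4 := h.Vn h2 hv
    rw [mem_cj]
    have e : g⁻¹ * (s * (g * v * g⁻¹) * s⁻¹) * g = (g⁻¹ * s * g) * v * (g⁻¹ * s * g)⁻¹ := by group
    rw [e]
    exact h4

end Cfsg.Agent.Omega.NSix.CaseJ.PBlock
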